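import Cfsg.Agent.H741.Pd.Heis
import Cfsg.Agent.H741.Pd.Base
import Cfsg.Agent.TitsThree.KExcBase
import Cfsg.Agent.H626.IP

/-!
# Lower bounds for the degrees of the Chevalley groups `G₂`, `F₄`, `E₇` in characteristic `≥ 5` (helper741)

`degree_ge`: `q ^ m ≤ χ(1)` for nontrivial `χ`, `m` the number of pairs of roots with sum the highest root.
-/

set_option autoImplicit false

namespace Cfsg.Agent.H741.Pd.ChevHeis

open Cfsg Cfsg.Lie Cfsg.Agent.ChevalleyStructure.Elts Cfsg.Agent.TitsThree.KExcBase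
open scoped commutatorElement

universe u

/-- The root elements commute. -/
def nil (D : ChevalleyDatum) (r s : ℕ) : Bool :=
  decide (r < D.nroots) && decide (s < D.nroots) && decide (s ≠ r) && decide (s ≠ D.neg r) && (D.commTerms r s).isEmpty

/-- One term. -/
def one (D : ChevalleyDatum) (r s k : ℕ) (N : ℤ) : Bool :=
  decide (r < D.nroots) && decide (s < D.nroots) && decide (s ≠ r) && decide (s ≠ D.neg r) &&
    decide (D.commTerms r s = [(k, N, 1, 1)])

/-- The table check. -/
def chkH (D : ChevalleyDatum) (k : ℕ) (P : List (ℕ × ℕ × ℤ)) : Bool :=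
  decide (k < D.nroots) &&
  P.all (fun p => one D p.1 p.2.1 k p.2.2 && nil D k p.1 && nil D k p.2.1 && decide (p.2.2.natAbs ∣ 6)) &&
  (List.range P.length).all (fun i => (List.range P.length).all fun j => i == j ||
    (nil D (P.getD i 0).1 (P.getD j 0).1 && nil D (P.getD i 0).1 (P.getD j 0).2.1))

variable {F : Type u} [Field F] {D : ChevalleyDatum}

theorem nil_comm (hD : InList D) {r s : ℕ} (h : nil D r s = true) (t u : F) :
    xG hD r t * xG hD s u = xG hD s u * xG hD r t := by
  simp only [nil, Bool.and_eq_true, decide_eq_true_eq, List.isEmpty_iff] at h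
  exact comm_nil hD h.1.1.1.1 h.1.1.1.2 h.1.1.2 h.1.2 h.2 t u

/-- The root element in the group. -/
def X (hD : InList D) (r : ℕ) (t : F) : ↥(D.group F) := ⟨xG hD r t, xG_mem_group hD r t⟩

theorem natAbs_dvd_six {N : ℤ} (h : N.natAbs ∣ 6) {p : ℕ} (hp : 5 ≤ p) (hpp : p.Prime) [CharP F p] :
    (N : F) ≠ 0 := by
  intro h0
  rw [CharP.intCast_eq_zero_iff F p] at h0
  have h1 : p ∣ N.natAbs := Int.natCast_dvd.1 h0
  have h2 : p ∣ 6 := h1.trans h
  have h3 : p ∣ 2 * 3 := h2
  rcases hpp.dvd_mul.1 h3 with h4 | h4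
  · have := Nat.le_of_dvd (by norm_num) h4
    omega
  · have := Nat.le_of_dvd (by norm_num) h4
    omega

theorem hd (hD : InList D) {k : ℕ} {P : List (ℕ × ℕ × ℤ)} (h : chkH D k P = true) {p : ℕ} (hp : 5 ≤ p)
    (hpp : p.Prime) [CharP F p] :
    Heis.HD (F := F) (X hD k) (fun i => X hD (P.getD i 0).1) (fun i => X hD (P.getD i 0).2.1)
      (fun i => ((P.getD i 0).2.2 : F)) P.length := by
  simp only [chkH, Bool.and_eq_true, decide_eq_true_eq, List.all_eq_true, List.mem_range, Bool.or_eq_true,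
    beq_iff_eq] at h
  obtain ⟨⟨hk, h1⟩, h2⟩ := h
  have hmem : ∀ i < P.length, P.getD i 0 ∈ P := by
    intro i hi
    rw [List.getD_eq_getElem _ _ hi]
    exact List.getElem_mem hi
  have hadd : ∀ (r : ℕ) (a b : F), X hD r (a + b) = X hD r a * X hD r b := fun r a b =>
    Subtype.ext (xG_add hD r a b).symm
  have hself : ∀ (r : ℕ) (a b : F), X hD r a * X hD r b = X hD r b * X hD r a := by
    intro r a b
    rw [← hadd, ← hadd, add_comm]
  refine ⟨hadd k, fun i _ => hadd _, ?_, ?_, ?_, ?_, ?_, ?_⟩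
  · intro i hi a b
    exact Subtype.ext (nil_comm hD (h1 _ (hmem i hi)).1.1.2 a b)
  · intro i hi a b
    exact Subtype.ext (nil_comm hD (h1 _ (hmem i hi)).1.2 a b)
  · intro i hi j hj a b
    rcases h2 i hi j hj with h3 | h3
    · subst h3
      exact hself _ a b
    · exact Subtype.ext (nil_comm hD h3.1 a b)
  · intro i hi j hj hij a b
    rcases h2 i hi j hj with h3 | h3
    · exact absurd h3 hij
    · exact Subtype.ext (nil_comm hD h3.2 a b)
  · intro i hi a b
    obtain ⟨⟨⟨h3, h4⟩, h5⟩, -⟩ := h1 _ (hmem i hi)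
    simp only [one, Bool.and_eq_true, decide_eq_true_eq] at h3
    have h6 := comm_one (F := F) hD h3.1.1.1.1 h3.1.1.1.2 h3.1.1.2 h3.1.2 h3.2
      (fun t u => (nil_comm hD h4 u t).symm) (fun t u => (nil_comm hD h5 u t).symm) a b
    rw [commutatorElement_def, mul_inv_eq_iff_eq_mul, mul_inv_eq_iff_eq_mul] at h6
    exact Subtype.ext h6
  · intro i hi
    exact natAbs_dvd_six (h1 _ (hmem i hi)).2 hp hpp

/-- **The lower bound for the degree.** -/
theorem degree_ge [Fintype F] [IsSimpleGroup ↥(D.group F)] (hD : InList D) {k : ℕ} {P : List (ℕ × ℕ × ℤ)}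
    (h : chkH D k P = true) {p : ℕ} (hp : 5 ≤ p) (hpp : p.Prime) [CharP F p] (χ : IrrCharacter ↥(D.group F))
    (h1 : charDegree (χ : ↥(D.group F) → ℂ) ≠ 1) :
    Fintype.card F ^ P.length ≤ charDegree (χ : ↥(D.group F) → ℂ) := by
  have hk : k < D.nroots := by
    simp only [chkH, Bool.and_eq_true, decide_eq_true_eq] at h
    exact h.1.1
  have H := hd (F := F) hD h hp hpp
  obtain ⟨χ, n, ρ, hρ, hχ⟩ := χ
  have hdeg : charDegree χ = n := by
    apply H687.charDegree_of_eq
    rw [← hχ, Representation.char_one, Module.finrank_fin_fun]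
  change charDegree χ ≠ 1 at h1
  show _ ≤ charDegree χ
  rw [hdeg] at h1 ⊢
  have h2 := Heis.bound ρ H (by
    by_contra hcon
    push Not at hcon
    -- the kernel
    have hker : (ρ : ↥(D.group F) →* Module.End ℂ (Fin n → ℂ)).ker = ⊤ := by
      rcases (inferInstance : (ρ : ↥(D.group F) →* Module.End ℂ (Fin n → ℂ)).ker.Normal).eq_bot_or_eq_top with h3 | h3
      · exfalso
        have h4 : X hD k (1 : F) ∈ (ρ : ↥(D.group F) →* Module.End ℂ (Fin n → ℂ)).ker := hcon 1
        rw [h3, Subgroup.mem_bot] at h4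
        exact one_ne_zero ((xG_eq_one_iff hD hk (1 : F)).1 (congrArg Subtype.val h4))
      · exact h3
    have h5 : ∀ g, χ g = χ 1 := by
      intro g
      rw [← hχ]
      have h6 : ρ g = ρ 1 := by
        have h7 : g ∈ (ρ : ↥(D.group F) →* Module.End ℂ (Fin n → ℂ)).ker := by rw [hker]; trivial
        rw [map_one]
        exact h7
      show LinearMap.trace ℂ _ (ρ g) = LinearMap.trace ℂ _ (ρ 1)
      rw [h6]
    have h8 : IsIrrCharacter ↥(D.group F) χ := ⟨n, ρ, hρ, hχ⟩
    have h9 := H626.ip_self h8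
    have h10 : χ = (n : ℂ) • (1 : ↥(D.group F) → ℂ) := by
      funext g
      rw [h5 g, ← hχ, Representation.char_one, Module.finrank_fin_fun]
      simp
    rw [h10, H626.ip_smul_left, H626.ip_smul_right, H626.ip_self Characters.Core.isIrr_one, Complex.conj_natCast,
      mul_one] at h9
    have h11 : n * n = 1 := by exact_mod_cast h9
    exact h1 (Nat.eq_one_of_mul_eq_one_left h11))
  rwa [Module.finrank_fin_fun] at h2

theorem chkG2 : chkH chevG2 11 [(6, 10, 1), (8, 9, 3)] = true := by decide +kernel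

theorem chkF4 : chkH chevF4 47 [(24, 46, 1), (26, 45, 1), (29, 44, 2), (31, 43, -1), (32, 42, 1), (36, 40, 2),
    (38, 39, -2)] = true := by decide +kernel

theorem chkE7 : chkH chevE7 125 [(93, 124, 1), (94, 123, -1), (95, 122, 1), (96, 121, -1), (97, 120, 1),
    (98, 119, -1), (99, 118, -1), (100, 117, 1), (101, 116, -1), (102, 115, 1)] = true := by decide +kernel

end Cfsg.Agent.H741.Pd.ChevHeis
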