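import Cfsg.Agent.H741.Pd.Base
import Cfsg.Agent.H687.Ext
import Cfsg.Agent.S4583
import Cfsg.Agent.S0867
import Cfsg.Agent.S0887
import Cfsg.Agent.S4445
import Cfsg.Agent.H612.MinNormal
import Cfsg.Agent.CharactersDeep.IndFun

/-!
# S4977: reduction to simple groups (helper741)

* `exists_over` : `N` perfect and normal, `θ ∈ Irr(N)` of degree prime to `p` invariant under a Sylow `p`-subgroup:
  some irreducible character of `G` of degree prime to `p` lies over `θ`;
* `reduction` : the reduction of S4977 to the table `CompS`.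
-/

set_option autoImplicit false

namespace Cfsg.Agent.H741.Pd

open Cfsg Subgroup
open Cfsg.Agent.H687
open Cfsg.Agent.H626 (ip)
open Cfsg.Agent.Characters.Core

universe u v

theorem detOrder_eq_one {N : Type u} [Group N] [Finite N] (hperf : commutator N = ⊤) {θ : N → ℂ}
    (hθ : IsIrrCharacter N θ) : detOrder θ = 1 := by
  obtain ⟨δ, hδ⟩ := CharactersDeep.ExtUnique.exists_hom_detChar hθ
  have h1 : detChar θ = 1 := by
    funext g
    rw [hδ]
    have h2 : g ∈ commutator N := by rw [hperf]; trivial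
    have h3 : commutator N ≤ δ.ker := Abelianization.commutator_subset_ker δ
    rw [h3 h2]
    rfl
  unfold detOrder
  rw [h1, orderOf_one]

/-- Extension to `N ⊔ P` and a constituent of the induced character. -/
theorem exists_over {G : Type u} [Group G] [Finite G] (N : Subgroup G) [hN : N.Normal] {p : ℕ} [hp : Fact p.Prime]
    (P : Sylow p G) (hperf : commutator N = ⊤) (θ : IrrCharacter N) (hdeg : ¬ p ∣ charDegree (θ : N → ℂ))
    (hinv : ∀ g ∈ (P : Subgroup G), ∀ n : N, (θ : N → ℂ) ⟨g * n * g⁻¹, hN.conj_mem (n : G) n.2 g⟩ = (θ : N → ℂ) n) :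
    ∃ χ : IrrCharacter G, ¬ p ∣ charDegree (χ : G → ℂ) ∧ ip (fun n : N => (χ : G → ℂ) n) (θ : N → ℂ) ≠ 0 := by
  classical
  obtain ⟨H, hH⟩ : ∃ H : Subgroup G, H = N ⊔ (P : Subgroup G) := ⟨_, rfl⟩
  have hNH : N ≤ H := hH ▸ le_sup_left
  have hPH : (P : Subgroup G) ≤ H := hH ▸ le_sup_right
  let e : N ≃* N.subgroupOf H := (Subgroup.subgroupOfEquivOfLe hNH).symm
  have he : ∀ n : N.subgroupOf H, ((e.symm n : N) : G) = ((n : H) : G) := fun n => rfl
  obtain ⟨θ', hθ'⟩ : ∃ θ' : N.subgroupOf H → ℂ, θ' = (θ : N → ℂ) ∘ e.symm := ⟨_, rfl⟩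
  have hθ'irr : IsIrrCharacter (N.subgroupOf H) θ' := by
    rw [hθ']
    exact isIrr_comp e.symm.toMonoidHom e.symm.surjective θ.2
  have hperf' : commutator (N.subgroupOf H) = ⊤ := by
    rw [commutator_def, ← Subgroup.map_top_of_surjective e.toMonoidHom e.surjective, ← Subgroup.map_commutator,
      ← commutator_def, hperf, Subgroup.map_top_of_surjective e.toMonoidHom e.surjective]
  -- invariance under `H`
  have hinvH : ∀ g ∈ H, ∀ n : N, (θ : N → ℂ) ⟨g * n * g⁻¹, hN.conj_mem (n : G) n.2 g⟩ = (θ : N → ℂ) n := by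
    let K : Subgroup G :=
      { carrier := {g | ∀ n : N, (θ : N → ℂ) ⟨g * n * g⁻¹, hN.conj_mem (n : G) n.2 g⟩ = (θ : N → ℂ) n}
        one_mem' := fun n => by
          refine congrArg (θ : N → ℂ) (Subtype.ext ?_)
          show (1 : G) * n * 1⁻¹ = n
          group
        mul_mem' := by
          intro a b ha hb n
          have h1 := ha ⟨b * n * b⁻¹, hN.conj_mem (n : G) n.2 b⟩
          rw [← hb n, ← h1]
          refine congrArg (θ : N → ℂ) (Subtype.ext ?_)
          show a * b * (n : G) * (a * b)⁻¹ = a * (b * n * b⁻¹) * a⁻¹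
          group
        inv_mem' := by
          intro a ha n
          have h1 := ha ⟨a⁻¹ * n * a⁻¹⁻¹, hN.conj_mem (n : G) n.2 a⁻¹⟩
          rw [← h1]
          refine congrArg (θ : N → ℂ) (Subtype.ext ?_)
          show a * (a⁻¹ * n * a⁻¹⁻¹) * a⁻¹ = n
          group }
    have h2 : H ≤ K := by
      rw [hH]
      refine sup_le ?_ fun g hg => hinv g hg
      intro g hg n
      have h3 := isIrr_isClassFunction θ.2 n ⟨g, hg⟩
      rw [← h3]
      rfl
    exact fun g hg => h2 hg
  have hinv' : ∀ (g : H) (n : N.subgroupOf H), θ' ⟨g * n * g⁻¹, (inferInstance : (N.subgroupOf H).Normal).conj_mem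
      (n : H) n.2 g⟩ = θ' n := by
    intro g n
    rw [hθ']
    exact hinvH g g.2 (e.symm n)
  have hidx : ∃ k : ℕ, (N.subgroupOf H).index = p ^ k := by
    have h1 : (N.subgroupOf H).index ∣ Nat.card (P : Subgroup G) := by
      change N.relIndex H ∣ _
      rw [hH, sup_comm, Subgroup.relIndex_sup_right]
      exact Subgroup.relIndex_dvd_card _ _
    obtain ⟨n, hn⟩ := P.2.exists_card_eq
    rw [hn] at h1
    obtain ⟨k, -, hk⟩ := (Nat.dvd_prime_pow Fact.out).1 h1
    exact ⟨k, hk⟩
  have hθ'1 : θ' 1 = (charDegree (θ : N → ℂ) : ℂ) := by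
    rw [hθ', Function.comp_apply, map_one]
    exact Irr.one_eq θ
  obtain ⟨η, ⟨hη, hηθ, -⟩, -⟩ := S0867.result (N.subgroupOf H) θ' hθ'irr hinv' (charDegree (θ : N → ℂ)) hθ'1 (by
    rw [detOrder_eq_one hperf' hθ'irr, one_mul]
    obtain ⟨k, hk⟩ := hidx
    rw [hk]
    exact Nat.Coprime.pow_left k ((Nat.Prime.coprime_iff_not_dvd hp.1).2 hdeg))
  have hη1 : η 1 = (charDegree (θ : N → ℂ) : ℂ) := by
    have h1 := hηθ 1
    rw [hθ'1] at h1
    exact h1
  let _ : Fintype G := Fintype.ofFinite G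
  have hΘ := CharactersDeep.IndFun.isCharacter_indFun H (isIrr_isCharacter hη)
  have hΘ1 : indFun H η 1 = ((H.index * charDegree (θ : N → ℂ) : ℕ) : ℂ) := by
    rw [CharactersDeep.IndFun.indFun_def]
    have h1 : ∀ x : G, extendByZero H η (x⁻¹ * 1 * x) = (charDegree (θ : N → ℂ) : ℂ) := by
      intro x
      rw [mul_one, inv_mul_cancel, CharactersDeep.IndFun.extendByZero_mem H η (one_mem H)]
      exact hη1
    rw [Finset.sum_congr rfl fun x _ => h1 x, Finset.sum_const, Finset.card_univ, nsmul_eq_mul,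
      ← Nat.card_eq_fintype_card, ← H.card_mul_index]
    have h2 : (Nat.card H : ℂ) ≠ 0 := Nat.cast_ne_zero.2 Nat.card_pos.ne'
    push_cast
    field_simp
  have hpidx : ¬ p ∣ H.index := by
    intro h
    exact P.not_dvd_index (h.trans (Subgroup.index_dvd_of_le hPH))
  obtain ⟨χ, hχ, hχΘ, c, hc, hpc, -⟩ := exists_irr_constituent hΘ hΘ1
    (fun h => (hp.1.dvd_mul.1 h).elim hpidx hdeg)
  refine ⟨⟨χ, hχ⟩, ?_, ?_⟩
  · show ¬ p ∣ charDegree χ
    rwa [charDegree_of_eq hc]
  · let _ : Fintype H := Fintype.ofFinite H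
    rw [CharactersDeep.IndFun.classInner_indFun H η χ (isIrr_isClassFunction hχ)] at hχΘ
    have h1 : IsCharacter H (fun h : H => χ h) :=
      Characters.Clifford.isCharacter_restrict H (isIrr_isCharacter hχ)
    have h2 : ip (fun h : H => χ h) η ≠ 0 := by
      rw [H626.ip_comm h1 (isIrr_isCharacter hη)]
      exact hχΘ
    have h3 : η ∘ (Subgroup.inclusion hNH) = (θ : N → ℂ) := by
      funext n
      have h4 := hηθ (e n)
      rw [hθ', Function.comp_apply, MulEquiv.symm_apply_apply] at h4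
      exact h4
    have h4 := S4583.ip_comp_ne_zero' h1 hη h2 (Subgroup.inclusion hNH) (by rw [h3]; exact θ.2)
    rw [h3] at h4
    exact h4

end Cfsg.Agent.H741.Pd
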