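import Cfsg.Agent.H120.Sys

/-!
# Degrees of representations which are nontrivial on the centre of a Heisenberg group (helper741)

`HD z x y c m` : commuting families `x i`, `y i` of homomorphisms from a finite field, `i < m`, with `z` in the centre
and `x i a * y i b = z (c i * a * b) * y i b * x i a`, `c i ≠ 0`.
* `bound` : if `ρ (z a) ≠ 1` for some `a` then `q ^ m ≤ dim ρ`.
-/

set_option autoImplicit false

namespace Cfsg.Agent.H741.Pd.Heis

open Module Cfsg.Agent.H120

variable {F : Type*} [Field F] {G : Type*} [Group G]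

/-- Heisenberg data. -/
structure HD (z : F → G) (x y : ℕ → F → G) (c : ℕ → F) (m : ℕ) : Prop where
  zadd : ∀ a b, z (a + b) = z a * z b
  xadd : ∀ i < m, ∀ a b, x i (a + b) = x i a * x i b
  zx : ∀ i < m, ∀ a b, z a * x i b = x i b * z a
  zy : ∀ i < m, ∀ a b, z a * y i b = y i b * z a
  xx : ∀ i < m, ∀ j < m, ∀ a b, x i a * x j b = x j b * x i a
  xy : ∀ i < m, ∀ j < m, i ≠ j → ∀ a b, x i a * y j b = y j b * x i a
  cm : ∀ i < m, ∀ a b, x i a * y i b = z (c i * a * b) * y i b * x i a
  cne : ∀ i < m, c i ≠ 0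

variable {z : F → G} {x y : ℕ → F → G} {c : ℕ → F} {m : ℕ} {V : Type*} [AddCommGroup V] [Module ℂ V]
  [FiniteDimensional ℂ V] (ρ : Representation ℂ G V)

theorem rep_inj (g : G) {v : V} (h : ρ g v = 0) : v = 0 := by
  have h1 : ρ (g⁻¹ * g) v = ρ g⁻¹ (ρ g v) := by rw [map_mul]; rfl
  rw [inv_mul_cancel, map_one, h, map_zero] at h1
  exact h1

theorem bound_aux [Fintype F] (H : HD z x y c m) {ψ : AddChar F ℂ} (hψ : ψ ≠ 0) :
    ∀ m' ≤ m, ∀ W : Submodule ℂ V, W ≠ ⊥ → (∀ v ∈ W, ∀ a, ρ (z a) v = ψ a • v) →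
      (∀ i < m', ∀ a, ∀ v ∈ W, ρ (x i a) v ∈ W) → (∀ i < m', ∀ a, ∀ v ∈ W, ρ (y i a) v ∈ W) →
        Fintype.card F ^ m' ≤ finrank ℂ W := by
  classical
  intro m'
  induction m' with
  | zero =>
    intro _ W hW _ _ _
    rw [pow_zero]
    exact Nat.one_le_iff_ne_zero.2 (fun h => hW (Submodule.finrank_eq_zero.1 h))
  | succ i ih =>
    intro hi W hW hz hx hy
    have hi' : i < m := hi
    -- the action of `x i`
    have hx0 : x i (0 : F) = 1 := by
      have := H.xadd i hi' 0 0
      rw [add_zero] at this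
      exact mul_eq_left.mp this.symm
    let T : AddAct F W :=
      { toFun := fun a => (ρ (x i a)).restrict (fun v hv => hx i (Nat.lt_succ_self i) a v hv)
        map_zero' := by
          ext v
          show ρ (x i 0) (v : V) = v
          rw [hx0, map_one]
          rfl
        map_add' := by
          intro a b
          ext v
          show ρ (x i (a + b)) (v : V) = ρ (x i a) (ρ (x i b) (v : V))
          rw [H.xadd i hi', map_mul]
          rfl }
    have hT : ∀ (φ : AddChar F ℂ) (v : W), v ∈ T.wt φ ↔ ∀ a, ρ (x i a) (v : V) = φ a • (v : V) := by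
      intro φ v
      rw [AddAct.mem_wt]
      constructor
      · intro h a
        exact congrArg Subtype.val (h a)
      · intro h a
        exact Subtype.ext (h a)
    -- shifting
    have hshift : ∀ (φ : AddChar F ℂ) (b : F) (v : V) (hv : v ∈ W), (⟨v, hv⟩ : W) ∈ T.wt φ →
        (⟨ρ (y i b) v, hy i (Nat.lt_succ_self i) b v hv⟩ : W) ∈ T.wt (AddChar.mulShift ψ (c i * b) * φ) := by
      intro φ b v hv h
      rw [hT] at h ⊢
      intro a
      have h1 := h a
      show ρ (x i a) (ρ (y i b) v) = _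
      have h2 : ρ (x i a) (ρ (y i b) v) = ρ (z (c i * a * b)) (ρ (y i b) (ρ (x i a) v)) := by
        have h3 := congrArg (fun g => ρ g v) (H.cm i hi' a b)
        simp only [map_mul] at h3
        exact h3
      simp only at h1
      rw [h2, h1, map_smul, map_smul, hz _ (hy i (Nat.lt_succ_self i) b v hv)]
      rw [smul_smul]
      congr 1
      rw [AddChar.mul_apply, AddChar.mulShift_apply, mul_comm (φ a)]
      congr 2
      ring
    -- every weight space is nonzero
    have hsum := T.sum_finrank_wt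
    obtain ⟨φ₀, hφ₀⟩ : ∃ φ, T.wt φ ≠ ⊥ := by
      by_contra hcon
      push Not at hcon
      rw [Finset.sum_eq_zero (fun φ _ => by rw [hcon φ, finrank_bot])] at hsum
      exact hW (Submodule.finrank_eq_zero.1 hsum)
    have hall : ∀ φ, T.wt φ ≠ ⊥ := by
      intro φ h
      obtain ⟨d, hd⟩ := exists_mulShift hψ (φ * φ₀⁻¹)
      obtain ⟨v, hv, hv0⟩ := Submodule.exists_mem_ne_zero_of_ne_bot hφ₀
      have h1 := hshift φ₀ ((c i)⁻¹ * d) v.1 v.2 hv
      have h2 : c i * ((c i)⁻¹ * d) = d := by
        rw [← mul_assoc, mul_inv_cancel₀ (H.cne i hi'), one_mul]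
      rw [h2, hd, inv_mul_cancel_right, h, Submodule.mem_bot] at h1
      apply hv0
      have h3 : ρ (y i ((c i)⁻¹ * d)) (v : V) = 0 := congrArg Subtype.val h1
      exact Subtype.ext (rep_inj ρ _ h3)
    -- induction
    have hdim : ∀ φ, Fintype.card F ^ i ≤ finrank ℂ (T.wt φ) := by
      intro φ
      have h1 := ih (by omega) ((T.wt φ).map W.subtype) ?_ ?_ ?_ ?_
      · have h2 : finrank ℂ ((T.wt φ).map W.subtype) = finrank ℂ (T.wt φ) :=
          LinearEquiv.finrank_eq (Submodule.equivMapOfInjective W.subtype W.subtype_injective _).symm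
        rwa [h2] at h1
      · intro h
        apply hall φ
        rw [Submodule.eq_bot_iff] at h ⊢
        intro v hv
        exact Subtype.ext (h v ⟨v, hv, rfl⟩)
      · rintro _ ⟨v, hv, rfl⟩ a
        exact hz v v.2 a
      · rintro j hj a _ ⟨v, hv, rfl⟩
        refine ⟨⟨ρ (x j a) v, hx j (by omega) a v v.2⟩, ?_, rfl⟩
        change _ ∈ T.wt φ at hv ⊢
        rw [hT] at hv ⊢
        intro b
        have h3 := congrArg (fun g => ρ g (v : V)) (H.xx i hi' j (by omega) b a)
        simp only [map_mul] at h3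
        have h4 : ρ (x i b) (ρ (x j a) (v : V)) = ρ (x j a) (ρ (x i b) (v : V)) := h3
        show ρ (x i b) (ρ (x j a) (v : V)) = _
        rw [h4, hv b, map_smul]
      · rintro j hj a _ ⟨v, hv, rfl⟩
        refine ⟨⟨ρ (y j a) v, hy j (by omega) a v v.2⟩, ?_, rfl⟩
        change _ ∈ T.wt φ at hv ⊢
        rw [hT] at hv ⊢
        intro b
        have h3 := congrArg (fun g => ρ g (v : V)) (H.xy i hi' j (by omega) (by omega) b a)
        simp only [map_mul] at h3
        have h4 : ρ (x i b) (ρ (y j a) (v : V)) = ρ (y j a) (ρ (x i b) (v : V)) := h3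
        show ρ (x i b) (ρ (y j a) (v : V)) = _
        rw [h4, hv b, map_smul]
    rw [hsum, pow_succ]
    calc Fintype.card F ^ i * Fintype.card F = ∑ _φ : AddChar F ℂ, Fintype.card F ^ i := by
          rw [Finset.sum_const, Finset.card_univ, AddChar.card_eq, smul_eq_mul, mul_comm]
      _ ≤ _ := Finset.sum_le_sum fun φ _ => hdim φ

/-- **The bound.** -/
theorem bound [Fintype F] (H : HD z x y c m) (h : ∃ a, ρ (z a) ≠ 1) : Fintype.card F ^ m ≤ finrank ℂ V := by
  classical
  have hz0 : z (0 : F) = 1 := by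
    have := H.zadd 0 0
    rw [add_zero] at this
    exact mul_eq_left.mp this.symm
  let T : AddAct F V :=
    { toFun := fun a => ρ (z a)
      map_zero' := by rw [hz0, map_one]
      map_add' := fun a b => by rw [H.zadd, map_mul] }
  obtain ⟨a, ha⟩ := h
  obtain ⟨ψ, hψ, hW⟩ := T.exists_wt_ne (by
    by_contra hcon
    push Not at hcon
    exact ha (LinearMap.ext fun v => hcon a v))
  have h1 := bound_aux ρ H hψ m le_rfl (T.wt ψ) hW (fun v hv a => hv a) ?_ ?_
  · exact h1.trans (Submodule.finrank_le _)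
  · intro i hi a v hv b
    have h3 := congrArg (fun g => ρ g v) (H.zx i hi b a)
    simp only [map_mul] at h3
    have h4 : ρ (z b) (ρ (x i a) v) = ρ (x i a) (ρ (z b) v) := h3
    show ρ (z b) (ρ (x i a) v) = _
    rw [h4, hv b, map_smul]
  · intro i hi a v hv b
    have h3 := congrArg (fun g => ρ g v) (H.zy i hi b a)
    simp only [map_mul] at h3
    have h4 : ρ (z b) (ρ (y i a) v) = ρ (y i a) (ρ (z b) v) := h3
    show ρ (z b) (ρ (y i a) v) = _
    rw [h4, hv b, map_smul]

end Cfsg.Agent.H741.Pd.Heis
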