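import Cfsg.Agent.H741.Pd.Base
import Cfsg.Agent.H687.Good

/-!
# S4977, own characteristic: tools (helper741)

* `compS_of_good` : the conclusion of S4834 for `S` and at most one prime `≠ p` which is a degree;
* `le_degree` : lower bounds for the degrees of the irreducible representations of a covering group;
* `le_of_dvd_even` etc. : the primes dividing the order.
-/

set_option autoImplicit false

namespace Cfsg.Agent.H741.Pd

open Cfsg
open Cfsg.Agent.H687

universe u v

/-- Two characters of degree prime to `p`, with degrees not both equal to the same prime. -/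
theorem compS_of_good {p : ℕ} [hp : Fact p.Prime] {S : Type u} [Group S] (hg : Good p S)
    (hu : ∀ χ ψ : IrrCharacter S, (charDegree (χ : S → ℂ)).Prime → (charDegree (ψ : S → ℂ)).Prime →
      charDegree (χ : S → ℂ) ≠ p → charDegree (ψ : S → ℂ) ≠ p → charDegree (χ : S → ℂ) = charDegree (ψ : S → ℂ)) :
    CompS p S := by
  obtain ⟨α, β, h1, h2, h3, h4, ⟨ψ, hψ⟩, h6, h7⟩ := hg
  intro P hP
  by_cases hα : (charDegree (α : S → ℂ)).Prime
  · by_cases hβ : (charDegree (β : S → ℂ)).Prime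
    · exfalso
      apply h6
      rw [hu α β hα hβ (fun h => h3 (by rw [h])) (fun h => h4 (by rw [h]))]
    · refine ⟨β, h4, h2, hβ, fun φ hφ s => h7 φ ?_ s⟩
      obtain ⟨k, hk⟩ := hP ⟨φ, hφ⟩
      have h8 : φ ^ p ^ k = 1 := congrArg Subtype.val hk
      obtain ⟨j, -, hj⟩ := (Nat.dvd_prime_pow hp.1).1 (orderOf_dvd_of_pow_eq_one h8)
      exact ⟨j, hj⟩
  · refine ⟨α, h3, h1, hα, fun φ _ s => ?_⟩
    rw [← hψ, ← hψ]
    have h1 : MulAut.conj (φ s) = φ * MulAut.conj s * φ⁻¹ := by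
      ext x
      simp [MulAut.conj_apply]
    rw [h1]
    exact Characters.Core.isIrr_isClassFunction ψ.2 _ _

/-- Lower bounds for the degrees of the irreducible representations of a covering group. -/
theorem le_degree {G : Type u} {S : Type v} [Group G] [Group S] (π : G →* S)
    (hπ : Function.Surjective π) {B : ℕ}
    (hB : ∀ (k : ℕ) (ρ : Representation ℂ G (Fin k → ℂ)), ρ.IsIrreducible → 2 ≤ k → B ≤ k)
    (χ : IrrCharacter S) (h : charDegree (χ : S → ℂ) ≠ 1) (h0 : charDegree (χ : S → ℂ) ≠ 0) :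
    B ≤ charDegree (χ : S → ℂ) := by
  obtain ⟨n, ρ, hρ, hχ⟩ := Characters.Core.isIrr_comp π hπ χ.2
  have hdeg : charDegree (χ : S → ℂ) = n := by
    apply charDegree_of_eq
    have h1 : ρ.character 1 = (χ : S → ℂ) 1 := by
      rw [hχ, Function.comp_apply, map_one]
    rw [← h1, Representation.char_one, Module.finrank_fin_fun]
  rw [hdeg] at h h0 ⊢
  exact hB n ρ hρ (by omega)

/-- Primes `≠ p` do not divide powers of `p`. -/
theorem dvd_of_dvd_pow_mul {l p k N r : ℕ} (hl : l.Prime) (hp : p.Prime) (hlp : l ≠ p)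
    (h : l ∣ (p ^ k) ^ N * r) : l ∣ r := by
  rcases hl.dvd_mul.1 h with h1 | h1
  · exfalso
    rw [← pow_mul] at h1
    exact hlp ((Nat.prime_dvd_prime_iff_eq hl hp).1 (hl.dvd_of_dvd_pow h1))
  · exact h1

theorem le_of_dvd_even {l q j : ℕ} (hl : l.Prime) (hq : 2 ≤ q) (hj : 1 ≤ j) (h : l ∣ q ^ (2 * j) - 1) :
    l ≤ q ^ j + 1 := by
  have h1 : 2 ≤ q ^ j := by
    calc 2 ≤ q := hq
      _ = q ^ 1 := (pow_one q).symm
      _ ≤ q ^ j := Nat.pow_le_pow_right (by omega) hj
  have h2 : q ^ (2 * j) - 1 = (q ^ j + 1) * (q ^ j - 1) := by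
    rw [mul_comm 2 j, pow_mul]
    have := Nat.sq_sub_sq (q ^ j) 1
    rwa [one_pow] at this
  rw [h2] at h
  rcases hl.dvd_mul.1 h with h3 | h3
  · exact Nat.le_of_dvd (by omega) h3
  · have := Nat.le_of_dvd (by omega) h3
    omega

theorem le_of_dvd_sub {l q j : ℕ} (hq : 2 ≤ q) (hj : 1 ≤ j) (h : l ∣ q ^ j - 1) : l ≤ q ^ j := by
  have h1 : 2 ≤ q ^ j := by
    calc 2 ≤ q := hq
      _ = q ^ 1 := (pow_one q).symm
      _ ≤ q ^ j := Nat.pow_le_pow_right (by omega) hj
  have := Nat.le_of_dvd (by omega) h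
  omega

/-- A degree is not zero. -/
theorem degree_ne_zero {S : Type u} [Group S] [Finite S] (χ : IrrCharacter S) : charDegree (χ : S → ℂ) ≠ 0 :=
  Blocks.Knorr.charDegree_ne_zero χ.2

end Cfsg.Agent.H741.Pd
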