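import Cfsg.Agent.H741.Pd.OwnExc
import Cfsg.Agent.S2332
import Cfsg.Agent.S2334
import Cfsg.Agent.S2335
import Cfsg.Agent.S2344
import Cfsg.Agent.S2345
import Cfsg.Agent.S2346
import Cfsg.Agent.S2347

/-!
# S4977, own characteristic: the prime degrees of the classical groups (helper741)

`psl_key`, `psu_key`, `psp_key`: a prime degree `≠ p` is determined by the group;
`psl_four`, `psu_even`, `po_odd`, `po_plus`, `po_minus`: `CompS p` as there is none.
-/

set_option autoImplicit false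

namespace Cfsg.Agent.H741.Pd.OwnCls

open Cfsg Cfsg.Agent.H741.Pd Finset
open Cfsg.Agent.H741.Pd.OwnExc

universe u

/-- `l ≥ A - 1`, `l ∣ A` prime: `l = A`. -/
theorem eq_of_dvd_succ {l A : ℕ} (hl : l.Prime) (hA : A ≠ 0) (h : l ∣ A) (h1 : A ≤ l + 1) : l = A := by
  obtain ⟨c, hc⟩ := h
  have h2 := hl.two_le
  have h10 : c < 2 := by
    by_contra h11
    have : l * 2 ≤ l * c := Nat.mul_le_mul le_rfl (by omega)
    omega
  have h11 : c ≠ 0 := by
    rintro rfl
    exact hA (by rw [hc, mul_zero])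
  have h12 : c = 1 := by omega
  rw [hc, h12, mul_one]

section fam

variable {F : Type} [Field F] [Fintype F] {p : ℕ} [hp : Fact p.Prime] [CharP F p]

local notation "GS" => fun (q n : ℕ) => ∑ i ∈ range n, q ^ i

theorem gs_mul {q : ℕ} (hq : 1 ≤ q) (n : ℕ) : (∑ i ∈ range n, q ^ i) * (q - 1) = q ^ n - 1 :=
  geom_sum_mul_of_one_le hq n

theorem gs_mono {q m n : ℕ} (h : m ≤ n) : ∑ i ∈ range m, q ^ i ≤ ∑ i ∈ range n, q ^ i :=
  Finset.sum_le_sum_of_subset (Finset.range_subset_range.2 h)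

/-- **`PSL_n(q)`**: a prime degree `≠ p` is `(q ^ n - 1) / (q - 1)`. -/
theorem psl_key (h5 : 5 ≤ p) {n : ℕ} (hn : 3 ≤ n)
    (χ : IrrCharacter (Matrix.ProjectiveSpecialLinearGroup (Fin n) F))
    (hl : (charDegree (χ : Matrix.ProjectiveSpecialLinearGroup (Fin n) F → ℂ)).Prime)
    (hlp : charDegree (χ : Matrix.ProjectiveSpecialLinearGroup (Fin n) F → ℂ) ≠ p) :
    charDegree (χ : Matrix.ProjectiveSpecialLinearGroup (Fin n) F → ℂ) = ∑ i ∈ range n, Fintype.card F ^ i := by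
  classical
  obtain ⟨q, hq⟩ : ∃ q, Fintype.card F = q := ⟨_, rfl⟩
  obtain ⟨⟨k, hk, hqp⟩, hq5⟩ := q_facts (F := F) h5 hq
  obtain ⟨m, rfl⟩ : ∃ m, n = m + 1 := ⟨n - 1, by omega⟩
  have h := S0243.result (F := F) hq (m + 1) (by omega)
  rw [OrdCrit.prod_gl] at h
  have hB := (S2332.result (F := F) (m + 1) hn ⟨by simp only [ne_eq, Prod.mk.injEq, not_and]; omega,
    by simp only [ne_eq, Prod.mk.injEq, not_and]; omega, by simp only [ne_eq, Prod.mk.injEq, not_and]; omega,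
    by simp only [ne_eq, Prod.mk.injEq, not_and]; omega⟩).1
  rw [hq] at hB ⊢
  have h2 : (q ^ (m + 1) - q) / (q - 1) ≤ charDegree (χ : Matrix.ProjectiveSpecialLinearGroup (Fin (m + 1)) F → ℂ) :=
    le_degree (QuotientGroup.mk' _) (QuotientGroup.mk'_surjective _) hB χ hl.ne_one (degree_ne_zero χ)
  have h3 : charDegree (χ : Matrix.ProjectiveSpecialLinearGroup (Fin (m + 1)) F → ℂ) ∣
      ∏ i ∈ range (m + 1), (q ^ (i + 1) - 1) := by
    refine dvd_of_dvd_pow_mul hl hp.1 hlp (N := (m + 1) * (m + 1 - 1) / 2) (k := k) ?_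
    rw [← hqp, ← h]
    exact ((Blocks.Knorr.charDegree_dvd χ.2).mul_left _).mul_left _
  have h4 : (q ^ (m + 1) - q) / (q - 1) = q * ∑ i ∈ range m, q ^ i := by
    have h6 : q ^ (m + 1) - q = q * (∑ i ∈ range m, q ^ i) * (q - 1) := by
      rw [mul_assoc, gs_mul (by omega), Nat.mul_sub, mul_one, pow_succ, mul_comm (q ^ m)]
    rw [h6, Nat.mul_div_cancel _ (by omega)]
  rw [h4] at h2
  generalize charDegree (χ : Matrix.ProjectiveSpecialLinearGroup (Fin (m + 1)) F → ℂ) = l at hl hlp h2 h3 ⊢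
  obtain ⟨i, hi, h7⟩ := (Prime.dvd_finsetProd_iff hl.prime _).1 h3
  rw [mem_range] at hi
  rw [← gs_mul (by omega)] at h7
  have hGm : 1 + q ≤ ∑ i ∈ range m, q ^ i := by
    have := gs_mono (q := q) (show 2 ≤ m by omega)
    simpa [Finset.sum_range_succ] using this
  have hGq : 5 * ∑ i ∈ range m, q ^ i ≤ q * ∑ i ∈ range m, q ^ i := Nat.mul_le_mul hq5 le_rfl
  rcases hl.dvd_mul.1 h7 with h8 | h8
  · rcases Nat.lt_or_ge i m with h9 | h9
    · have h10 := Nat.le_of_dvd (by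
        have := gs_mono (q := q) (show 1 ≤ i + 1 by omega)
        simp only [Finset.sum_range_one, pow_zero] at this
        omega) h8
      have h11 := gs_mono (q := q) (show i + 1 ≤ m by omega)
      omega
    · have h10 : i = m := by omega
      subst h10
      have h12 : ∑ j ∈ range (i + 1), q ^ j = q * (∑ j ∈ range i, q ^ j) + 1 := geom_sum_succ
      refine eq_of_dvd_succ hl (by omega) h8 (by omega)
  · have := Nat.le_of_dvd (by omega) h8
    omega

/-- `PSL_4(q)`: no prime degree `≠ p`. -/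
theorem psl_four (h5 : 5 ≤ p) [IsSimpleGroup (Matrix.ProjectiveSpecialLinearGroup (Fin 4) F)]
    (hna : ∃ a b : Matrix.ProjectiveSpecialLinearGroup (Fin 4) F, a * b ≠ b * a) :
    CompS p (Matrix.ProjectiveSpecialLinearGroup (Fin 4) F) := by
  have hpS : p ∣ Nat.card (Matrix.ProjectiveSpecialLinearGroup (Fin 4) F) :=
    (dvd_pow_self p two_ne_zero).trans (Sq.psl hp.1 (by norm_num))
  refine compS_of_large hna hpS fun χ hχ => ?_
  by_contra hne
  have h1 := psl_key h5 (by norm_num) χ hχ hne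
  have h2 : ∑ i ∈ range 4, Fintype.card F ^ i = (Fintype.card F + 1) * (Fintype.card F ^ 2 + 1) := by
    simp only [Finset.sum_range_succ, Finset.sum_range_zero]
    ring
  have h3 : 1 < Fintype.card F := Fintype.one_lt_card
  rw [h1, h2] at hχ
  refine Nat.not_prime_mul (by omega) ?_ hχ
  have : 0 < Fintype.card F ^ 2 := by positivity
  omega

/-- Primes dividing `q ^ (i + 1) ± 1`. -/
theorem psu_dvd {l q n i : ℕ} (hl : l.Prime) (hq5 : 5 ≤ q) (hn : 3 ≤ n) (hi : i < n)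
    (h : l ∣ if Even i then q ^ (i + 1) + 1 else q ^ (i + 1) - 1) :
    (l + 1) * (q + 1) ≤ q ^ (n - 1) + q ^ (n - 2) + 2 * q + 2 ∨ (Odd n ∧ l ∣ (q ^ n + 1) / (q + 1)) := by
  have hx : q ^ (n - 1) = q * q ^ (n - 2) := by
    rw [show n - 1 = (n - 2) + 1 by omega, pow_succ, mul_comm]
  have hlow : q + 1 ≤ q ^ (n - 2) + 1 := by
    have : q ^ 1 ≤ q ^ (n - 2) := Nat.pow_le_pow_right (by omega) (by omega)
    rw [pow_one] at this
    omega
  have key : l ≤ q ^ (n - 2) + 1 → (l + 1) * (q + 1) ≤ q ^ (n - 1) + q ^ (n - 2) + 2 * q + 2 := by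
    intro h1
    have h2 : (l + 1) * (q + 1) ≤ (q ^ (n - 2) + 1 + 1) * (q + 1) := Nat.mul_le_mul (by omega) le_rfl
    have h3 : (q ^ (n - 2) + 1 + 1) * (q + 1) = q * q ^ (n - 2) + q ^ (n - 2) + 2 * q + 2 := by ring
    rw [hx]
    omega
  by_cases he : Even i
  · rw [if_pos he] at h
    have hodd : Odd (i + 1) := he.add_one
    have hd : q + 1 ∣ q ^ (i + 1) + 1 := by
      have := Odd.nat_add_dvd_pow_add_pow q 1 hodd
      rwa [one_pow] at this
    obtain ⟨c, hc⟩ := hd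
    have hcd : (q ^ (i + 1) + 1) / (q + 1) = c := by
      rw [hc, Nat.mul_div_cancel_left _ (by omega)]
    rw [hc] at h
    rcases hl.dvd_mul.1 h with h1 | h1
    · exact Or.inl (key ((Nat.le_of_dvd (by omega) h1).trans hlow))
    · by_cases hin : i + 1 = n
      · right
        rw [← hin]
        exact ⟨hodd, by rwa [hcd]⟩
      · left
        have hc0 : 0 < c := by
          rcases Nat.eq_zero_or_pos c with h2 | h2
          · rw [h2] at hc
            omega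
          · exact h2
        have h2 := Nat.le_of_dvd hc0 h1
        have h3 : (l + 1) * (q + 1) ≤ (c + 1) * (q + 1) := Nat.mul_le_mul (by omega) le_rfl
        have h4 : (c + 1) * (q + 1) = (q + 1) * c + q + 1 := by ring
        have h6 : q ^ (i + 1) ≤ q ^ (n - 1) := Nat.pow_le_pow_right (by omega) (by omega)
        omega
  · rw [if_neg he] at h
    left
    obtain ⟨j, hj⟩ := Nat.not_even_iff_odd.1 he
    have h1 : i + 1 = 2 * (j + 1) := by omega
    rw [h1] at h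
    apply key
    rcases Nat.lt_or_ge n 4 with h4 | h4
    · exact le_pow_even hl (by omega) (by omega) (by omega) h
    · exact le_pow_even hl (by omega) (by omega) (by omega) h

theorem psu_num {q n : ℕ} (hq5 : 5 ≤ q) (hn : 3 ≤ n) :
    q ^ (n - 1) + q ^ (n - 2) + 2 * q + 2 < q ^ n - q := by
  obtain ⟨m, rfl⟩ : ∃ m, n = m + 3 := ⟨n - 3, by omega⟩
  have e1 : m + 3 - 1 = m + 2 := by omega
  have e2 : m + 3 - 2 = m + 1 := by omega
  rw [e1, e2]
  obtain ⟨x, hx⟩ : ∃ x, q ^ (m + 1) = x := ⟨_, rfl⟩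
  have h1 : q ^ (m + 2) = q * x := by rw [← hx]; ring
  have h2 : q ^ (m + 3) = q * (q * x) := by rw [← hx]; ring
  rw [h1, h2, hx]
  have h3 : q ≤ x := by
    rw [← hx]
    exact Nat.le_self_pow (by omega) q
  have h4 : 5 * x ≤ q * x := Nat.mul_le_mul hq5 le_rfl
  have h5 : 5 * (q * x) ≤ q * (q * x) := Nat.mul_le_mul hq5 le_rfl
  omega

/-- **`PSU_n(q)`, `n` odd**: a prime degree `≠ p` is `(q ^ n + 1) / (q + 1)`. -/
theorem psu_key (h5 : 5 ≤ p) {n q : ℕ} (hn : 3 ≤ n) (hodd : Odd n) (hF : Fintype.card F = q ^ 2)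
    (χ : IrrCharacter (PSU n F q)) (hl : (charDegree (χ : PSU n F q → ℂ)).Prime)
    (hlp : charDegree (χ : PSU n F q → ℂ) ≠ p) :
    charDegree (χ : PSU n F q → ℂ) = (q ^ n + 1) / (q + 1) := by
  classical
  obtain ⟨k, hk, hqp⟩ := OrdCrit.root_pow hp.1 (by norm_num) (OrdCrit.exists_pow (F := F) hp.1) hF
  have hq5 : 5 ≤ q := by
    rw [hqp]
    calc 5 ≤ p := h5
      _ = p ^ 1 := (pow_one p).symm
      _ ≤ p ^ k := Nat.pow_le_pow_right hp.1.pos (Nat.one_le_iff_ne_zero.2 hk)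
  have h := S0280.result (F := F) hF n (by omega)
  have hB := S2334.result (F := F) n q hn hodd hF (by simp only [ne_eq, Prod.mk.injEq, not_and]; omega)
  have h2 : (q ^ n - q) / (q + 1) ≤ charDegree (χ : PSU n F q → ℂ) :=
    le_degree (QuotientGroup.mk' _) (QuotientGroup.mk'_surjective _) hB χ hl.ne_one (degree_ne_zero χ)
  have h3 : charDegree (χ : PSU n F q → ℂ) ∣
      ∏ i ∈ range n, (if Even i then q ^ (i + 1) + 1 else q ^ (i + 1) - 1) := by
    refine dvd_of_dvd_pow_mul hl hp.1 hlp (N := n * (n - 1) / 2) (k := k) ?_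
    rw [← hqp, ← h]
    exact ((Blocks.Knorr.charDegree_dvd χ.2).mul_left _).mul_left _
  generalize charDegree (χ : PSU n F q → ℂ) = l at hl hlp h2 h3 ⊢
  obtain ⟨i, hi, h7⟩ := (Prime.dvd_finsetProd_iff hl.prime _).1 h3
  rw [mem_range] at hi
  obtain ⟨A, hA⟩ : q + 1 ∣ q ^ n + 1 := by
    have := Odd.nat_add_dvd_pow_add_pow q 1 hodd
    rwa [one_pow] at this
  have hAd : (q ^ n + 1) / (q + 1) = A := by
    rw [hA, Nat.mul_div_cancel_left _ (by omega)]
  have hA0 : A ≠ 0 := by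
    rintro rfl
    omega
  have hqn : q ≤ q ^ n := Nat.le_self_pow (by omega) q
  have hBA : (q ^ n - q) / (q + 1) = A - 1 := by
    apply Nat.div_eq_of_eq_mul_right (by omega)
    rw [Nat.mul_sub, ← hA]
    omega
  rw [hAd]
  have hnum := psu_num hq5 hn
  rcases psu_dvd hl hq5 hn hi h7 with h8 | ⟨-, h8⟩
  · exfalso
    rw [hBA] at h2
    have h9 : (A - 1 + 1) * (q + 1) ≤ (l + 1) * (q + 1) := Nat.mul_le_mul (by omega) le_rfl
    have h10 : (A - 1 + 1) * (q + 1) = (q + 1) * A := by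
      rw [Nat.sub_add_cancel (by omega), mul_comm]
    omega
  · rw [hAd] at h8
    exact eq_of_dvd_succ hl hA0 h8 (by omega)

/-- `PSU_n(q)`, `n` even: no prime degree `≠ p`. -/
theorem psu_even (h5 : 5 ≤ p) {n q : ℕ} (hn : 4 ≤ n) (heven : Even n) (hF : Fintype.card F = q ^ 2)
    [IsSimpleGroup (PSU n F q)] (hna : ∃ a b : PSU n F q, a * b ≠ b * a) : CompS p (PSU n F q) := by
  classical
  obtain ⟨k, hk, hqp⟩ := OrdCrit.root_pow hp.1 (by norm_num) (OrdCrit.exists_pow (F := F) hp.1) hF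
  have hq5 : 5 ≤ q := by
    rw [hqp]
    calc 5 ≤ p := h5
      _ = p ^ 1 := (pow_one p).symm
      _ ≤ p ^ k := Nat.pow_le_pow_right hp.1.pos (Nat.one_le_iff_ne_zero.2 hk)
  have hpS : p ∣ Nat.card (PSU n F q) := (dvd_pow_self p two_ne_zero).trans (Sq.psu hp.1 hF (by omega))
  refine compS_of_large' hna hpS fun l hl hlp hlS χ hχ => ?_
  have h := S0280.result (F := F) hF n (by omega)
  have hB := S2335.result (F := F) n q hn heven hF ⟨by simp only [ne_eq, Prod.mk.injEq, not_and]; omega,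
    by simp only [ne_eq, Prod.mk.injEq, not_and]; omega⟩
  have h2 : (q ^ n - 1) / (q + 1) ≤ charDegree (χ : PSU n F q → ℂ) :=
    le_degree (QuotientGroup.mk' _) (QuotientGroup.mk'_surjective _) hB χ (by rw [hχ]; exact hl.ne_one)
      (degree_ne_zero χ)
  have h3 : l ∣ ∏ i ∈ range n, (if Even i then q ^ (i + 1) + 1 else q ^ (i + 1) - 1) := by
    refine dvd_of_dvd_pow_mul hl hp.1 hlp (N := n * (n - 1) / 2) (k := k) ?_
    rw [← hqp, ← h]
    exact (hlS.mul_left _).mul_left _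
  rw [hχ] at h2
  obtain ⟨i, hi, h7⟩ := (Prime.dvd_finsetProd_iff hl.prime _).1 h3
  rw [mem_range] at hi
  have hnum := psu_num hq5 (show 3 ≤ n by omega)
  rcases psu_dvd hl hq5 (by omega) hi h7 with h8 | ⟨h8, -⟩
  · have h9 : l + 1 ≤ (q ^ n - 1) / (q + 1) := by
      rw [Nat.le_div_iff_mul_le (by omega)]
      omega
    omega
  · exact Nat.not_even_iff_odd.2 h8 heven

/-- **`PSp_{2m}(q)`**: a prime degree `≠ p` is `(q ^ m + 1) / 2`. -/
theorem psp_key (h5 : 5 ≤ p) {m : ℕ} (hm : 2 ≤ m) (χ : IrrCharacter (PSp m F))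
    (hl : (charDegree (χ : PSp m F → ℂ)).Prime) (hlp : charDegree (χ : PSp m F → ℂ) ≠ p) :
    charDegree (χ : PSp m F → ℂ) = (Fintype.card F ^ m + 1) / 2 := by
  classical
  obtain ⟨q, hq⟩ : ∃ q, Fintype.card F = q := ⟨_, rfl⟩
  obtain ⟨⟨k, hk, hqp⟩, hq5⟩ := q_facts (F := F) h5 hq
  have hpodd : Odd p := hp.1.odd_of_ne_two (by omega)
  have hqodd : Odd q := by rw [hqp]; exact hpodd.pow
  have h1 := S0245.result (F := F) hq m
  have hB := (S2347.result (F := F) m hm (by rw [hq]; exact hqodd)).1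
  rw [hq] at hB ⊢
  have h2 : (q ^ m - 1) / 2 ≤ charDegree (χ : PSp m F → ℂ) :=
    le_degree (QuotientGroup.mk' _) (QuotientGroup.mk'_surjective _) hB χ hl.ne_one (degree_ne_zero χ)
  have h3 : charDegree (χ : PSp m F → ℂ) ∣ ∏ i ∈ range m, (q ^ (2 * (i + 1)) - 1) := by
    refine dvd_of_dvd_pow_mul hl hp.1 hlp (N := m ^ 2) (k := k) ?_
    rw [← hqp, ← h1]
    exact (Blocks.Knorr.charDegree_dvd χ.2).trans (Subgroup.card_quotient_dvd_card _)
  generalize charDegree (χ : PSp m F → ℂ) = l at hl hlp h2 h3 ⊢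
  obtain ⟨i, hi, h7⟩ := (Prime.dvd_finsetProd_iff hl.prime _).1 h3
  rw [mem_range] at hi
  obtain ⟨n, rfl⟩ : ∃ n, m = n + 1 := ⟨m - 1, by omega⟩
  obtain ⟨t, ht⟩ : Odd (q ^ (n + 1)) := hqodd.pow
  have hlow : q ≤ q ^ n := Nat.le_self_pow (by omega) q
  have hup : 5 * q ^ n ≤ q ^ (n + 1) := by
    rw [pow_succ, mul_comm]
    exact Nat.mul_le_mul le_rfl hq5
  rw [ht] at h2 hup ⊢
  have h8 : (2 * t + 1 - 1) / 2 = t := by omega
  have h9 : (2 * t + 1 + 1) / 2 = t + 1 := by omega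
  rw [h8] at h2
  rw [h9]
  rcases Nat.lt_or_ge i n with h10 | h10
  · have h11 := le_pow_even (m := n) hl (by omega) (by omega) (by omega) h7
    omega
  · have h11 : i = n := by omega
    subst h11
    have h12 : q ^ (2 * (i + 1)) - 1 = (2 * t + 1 + 1) * (2 * t + 1 - 1) := by
      rw [← ht, mul_comm 2 (i + 1), pow_mul]
      have := Nat.sq_sub_sq (q ^ (i + 1)) 1
      rwa [one_pow] at this
    rw [h12] at h7
    rcases hl.dvd_mul.1 h7 with h13 | h13
    · have h14 : 2 * t + 1 + 1 = 2 * (t + 1) := by ring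
      rw [h14] at h13
      rcases hl.dvd_mul.1 h13 with h15 | h15
      · have := Nat.le_of_dvd (by norm_num) h15
        omega
      · exact eq_of_dvd_succ hl (by omega) h15 (by omega)
    · have h14 : 2 * t + 1 - 1 = (∑ j ∈ range (i + 1), q ^ j) * (q - 1) := by
        rw [gs_mul (by omega), ht]
      rw [h14] at h13
      rcases hl.dvd_mul.1 h13 with h15 | h15
      · have h16 : 0 < ∑ j ∈ range (i + 1), q ^ j := by
          have := gs_mono (q := q) (show 1 ≤ i + 1 by omega)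
          simp only [Finset.sum_range_one, pow_zero] at this
          omega
        have h17 := Nat.le_of_dvd h16 h15
        have h18 : (∑ j ∈ range (i + 1), q ^ j) * 4 ≤ (∑ j ∈ range (i + 1), q ^ j) * (q - 1) :=
          Nat.mul_le_mul le_rfl (by omega)
        omega
      · have := Nat.le_of_dvd (by omega) h15
        omega

/-- `PΩ_{2m+1}(q)`. -/
theorem po_odd (h5 : 5 ≤ p) {m : ℕ} (hm : 3 ≤ m) [IsSimpleGroup (POmega F (quadFormOdd m F))]
    (hna : ∃ a b : POmega F (quadFormOdd m F), a * b ≠ b * a) : CompS p (POmega F (quadFormOdd m F)) := by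
  classical
  obtain ⟨q, hq⟩ : ∃ q, Fintype.card F = q := ⟨_, rfl⟩
  obtain ⟨⟨k, hk, hqp⟩, hq5⟩ := q_facts (F := F) h5 hq
  have hpodd : Odd p := hp.1.odd_of_ne_two (by omega)
  have hqodd : Odd q := by rw [hqp]; exact hpodd.pow
  have h1 := S0292.result (F := F) hq hqodd m hm
  have hB := S2344.result (F := F) m hm (by rw [hq]; exact hqodd) (by omega)
  rw [hq] at hB
  refine compS_of_bound hna hk hqp (by
    rw [Nat.coprime_primes Nat.prime_two hp.1]
    omega) (N := m ^ 2) (Nat.one_le_pow _ _ (by omega)) h1 (B := (q ^ (2 * m) - 1) / (q ^ 2 - 1))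
    (fun χ hχ => le_degree (QuotientGroup.mk' _) (QuotientGroup.mk'_surjective _) hB χ hχ (degree_ne_zero χ))
    fun l hl h => ?_
  obtain ⟨i, hi, h7⟩ := (Prime.dvd_finsetProd_iff hl.prime _).1 h
  rw [mem_range] at hi
  have h8 := le_pow_even (m := m) hl (by omega) (by omega) (by omega) h7
  obtain ⟨x, hx⟩ : ∃ x, q ^ m = x := ⟨_, rfl⟩
  have hx3 : q * q ^ 2 ≤ x := by
    rw [← hx]
    calc q * q ^ 2 = q ^ 3 := by ring
      _ ≤ q ^ m := Nat.pow_le_pow_right (by omega) hm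
  have h25 : 25 ≤ q ^ 2 := by nlinarith
  have h9 : q ^ (2 * m) = x * x := by rw [← hx, mul_comm, pow_mul, sq]
  rw [h9]
  rw [hx] at h8
  have h10 : l + 1 ≤ (x * x - 1) / (q ^ 2 - 1) := by
    rw [Nat.le_div_iff_mul_le (by omega)]
    have h11 : (l + 1) * (q ^ 2 - 1) ≤ (x + 2) * (q ^ 2 - 1) := Nat.mul_le_mul (by omega) le_rfl
    have h12 : 5 * q ^ 2 ≤ x := le_trans (Nat.mul_le_mul hq5 le_rfl) hx3
    obtain ⟨s, hs⟩ : ∃ s, q ^ 2 = s + 1 := ⟨q ^ 2 - 1, by omega⟩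
    rw [hs] at h11 h12 ⊢
    have h13 : s + 1 - 1 = s := by omega
    rw [h13] at h11 ⊢
    have h14 : (x + 2) * s + 1 ≤ x * x := by nlinarith
    omega
  omega

/-- `PΩ⁺_{2m}(q)`. -/
theorem po_plus (h5 : 5 ≤ p) {m : ℕ} (hm : 4 ≤ m) [IsSimpleGroup (POmega F (quadFormPlus m F))]
    (hna : ∃ a b : POmega F (quadFormPlus m F), a * b ≠ b * a) : CompS p (POmega F (quadFormPlus m F)) := by
  classical
  obtain ⟨q, hq⟩ : ∃ q, Fintype.card F = q := ⟨_, rfl⟩
  obtain ⟨⟨k, hk, hqp⟩, hq5⟩ := q_facts (F := F) h5 hq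
  have h1 := S0293.result (F := F) hq m hm
  rw [mul_assoc] at h1
  have hB := S2345.result (F := F) m hm (by omega)
  rw [hq] at hB
  refine compS_of_bound hna hk hqp (Nat.Coprime.coprime_dvd_left (Nat.gcd_dvd_right _ _)
    (OrdCrit.coprime_pow_sub m (by omega) hp.1 hk hqp)) (N := m * (m - 1)) (Nat.mul_pos (by omega) (by omega)) h1
    (B := (q ^ m - 1) * (q ^ (m - 1) + q) / (q ^ 2 - 1))
    (fun χ hχ => le_degree (QuotientGroup.mk' _) (QuotientGroup.mk'_surjective _) hB χ hχ (degree_ne_zero χ))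
    fun l hl h => ?_
  obtain ⟨x, hx⟩ : ∃ x, q ^ (m - 1) = x := ⟨_, rfl⟩
  have hxm : q ^ m = q * x := by
    rw [← hx, ← pow_succ', Nat.sub_add_cancel (by omega)]
  have hx3 : q * q ^ 2 ≤ x := by
    rw [← hx]
    calc q * q ^ 2 = q ^ 3 := by ring
      _ ≤ q ^ (m - 1) := Nat.pow_le_pow_right (by omega) (by omega)
  have h25 : 25 ≤ q ^ 2 := by nlinarith
  have h12 : 5 * q ^ 2 ≤ x := le_trans (Nat.mul_le_mul hq5 le_rfl) hx3
  have hqx : 5 * x ≤ q * x := Nat.mul_le_mul hq5 le_rfl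
  have h8 : l ≤ q * x - 1 := by
    rcases hl.dvd_mul.1 h with h7 | h7
    · rw [hxm] at h7
      exact Nat.le_of_dvd (by omega) h7
    · obtain ⟨i, hi, h7⟩ := (Prime.dvd_finsetProd_iff hl.prime _).1 h7
      rw [mem_range] at hi
      have h8 := le_pow_even (m := m - 1) hl (by omega) (by omega) (by omega) h7
      omega
  rw [hx, hxm]
  have h10 : l + 1 ≤ (q * x - 1) * (x + q) / (q ^ 2 - 1) := by
    rw [Nat.le_div_iff_mul_le (by omega)]
    have h11 : (l + 1) * (q ^ 2 - 1) ≤ (q * x) * (q ^ 2 - 1) := Nat.mul_le_mul (by omega) le_rfl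
    obtain ⟨s, hs⟩ : ∃ s, q ^ 2 = s + 1 := ⟨q ^ 2 - 1, by omega⟩
    obtain ⟨y, hy⟩ : ∃ y, q * x = y + 1 := ⟨q * x - 1, by omega⟩
    rw [hs] at h11 h12 ⊢
    rw [hy] at h11 ⊢
    have h13 : s + 1 - 1 = s := by omega
    have h14 : y + 1 - 1 = y := by omega
    rw [h13] at h11 ⊢
    rw [h14]
    have h15 : (y + 1) * s ≤ y * (x + q) := by nlinarith
    omega
  omega

/-- `PΩ⁻_{2m}(q)`. -/
theorem po_minus (h5 : 5 ≤ p) {m : ℕ} (hm : 4 ≤ m) (a b : F)
    (hab : ∀ z₁ z₂ : F, z₁ ^ 2 + a * z₁ * z₂ + b * z₂ ^ 2 = 0 → z₁ = 0 ∧ z₂ = 0)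
    [IsSimpleGroup (POmega F (quadFormMinus (m - 1) F a b))]
    (hna : ∃ x y : POmega F (quadFormMinus (m - 1) F a b), x * y ≠ y * x) :
    CompS p (POmega F (quadFormMinus (m - 1) F a b)) := by
  classical
  obtain ⟨q, hq⟩ : ∃ q, Fintype.card F = q := ⟨_, rfl⟩
  obtain ⟨⟨k, hk, hqp⟩, hq5⟩ := q_facts (F := F) h5 hq
  have h1 := S0294.result (F := F) hq m hm a b hab
  rw [mul_assoc] at h1
  have hB := S2346.result (F := F) m hm a b hab
  rw [hq] at hB
  refine compS_of_bound hna hk hqp (Nat.Coprime.coprime_dvd_left (Nat.gcd_dvd_right _ _)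
    (OrdCrit.coprime_pow_add m (by omega) hp.1 hk hqp)) (N := m * (m - 1)) (Nat.mul_pos (by omega) (by omega)) h1
    (B := (q ^ m + 1) * (q ^ (m - 1) - q) / (q ^ 2 - 1))
    (fun χ hχ => le_degree (QuotientGroup.mk' _) (QuotientGroup.mk'_surjective _) hB χ hχ (degree_ne_zero χ))
    fun l hl h => ?_
  obtain ⟨x, hx⟩ : ∃ x, q ^ (m - 1) = x := ⟨_, rfl⟩
  have hxm : q ^ m = q * x := by
    rw [← hx, ← pow_succ', Nat.sub_add_cancel (by omega)]
  have hx3 : q * q ^ 2 ≤ x := by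
    rw [← hx]
    calc q * q ^ 2 = q ^ 3 := by ring
      _ ≤ q ^ (m - 1) := Nat.pow_le_pow_right (by omega) (by omega)
  have h25 : 5 * q ≤ q ^ 2 := by nlinarith
  have h12 : 5 * q ^ 2 ≤ x := le_trans (Nat.mul_le_mul hq5 le_rfl) hx3
  have hqx : 5 * x ≤ q * x := Nat.mul_le_mul hq5 le_rfl
  have h8 : l ≤ q * x + 1 := by
    rcases hl.dvd_mul.1 h with h7 | h7
    · rw [hxm] at h7
      exact Nat.le_of_dvd (by omega) h7
    · obtain ⟨i, hi, h7⟩ := (Prime.dvd_finsetProd_iff hl.prime _).1 h7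
      rw [mem_range] at hi
      have h8 := le_pow_even (m := m - 1) hl (by omega) (by omega) (by omega) h7
      omega
  rw [hx, hxm]
  have h10 : l + 1 ≤ (q * x + 1) * (x - q) / (q ^ 2 - 1) := by
    rw [Nat.le_div_iff_mul_le (by omega)]
    have h11 : (l + 1) * (q ^ 2 - 1) ≤ (q * x + 2) * (q ^ 2 - 1) := Nat.mul_le_mul (by omega) le_rfl
    obtain ⟨s, hs⟩ : ∃ s, q ^ 2 = s + 1 := ⟨q ^ 2 - 1, by omega⟩
    have h16 : 2 * s ≤ x - q := by omega
    rw [hs] at h11 ⊢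
    have h13 : s + 1 - 1 = s := by omega
    rw [h13] at h11 ⊢
    have h15 : (q * x + 1) * (2 * s) ≤ (q * x + 1) * (x - q) := Nat.mul_le_mul le_rfl h16
    have h17 : (q * x + 2) * s ≤ (q * x + 1) * (2 * s) := by nlinarith
    omega
  omega

end fam

end Cfsg.Agent.H741.Pd.OwnCls
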