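import Cfsg.Agent.H741.Pd.OwnBase
import Cfsg.Agent.H741.Pd.ChevHeis
import Cfsg.Agent.OrdCrit.Main
import Cfsg.Agent.H741.Pd.Sq
import Cfsg.Agent.H443.GoodChev
import Cfsg.Agent.S2339
import Cfsg.Agent.S2340
import Cfsg.Agent.S2341
import Cfsg.Agent.S2342

/-!
# S4977, own characteristic: exceptional groups (helper741)
-/

set_option autoImplicit false

namespace Cfsg.Agent.H741.Pd.OwnExc

open Cfsg Cfsg.Agent.H741.Pd

universe u

/-- **Own characteristic, large lower bound.** -/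
theorem compS_of_bound {S : Type u} [Group S] [Finite S] [IsSimpleGroup S] (hna : ∃ a b : S, a * b ≠ b * a)
    {p q k N d r B : ℕ} [hp : Fact p.Prime] (hk : k ≠ 0) (hq : q = p ^ k) (hd : Nat.Coprime d p) (hN : 1 ≤ N)
    (h : d * Nat.card S = q ^ N * r)
    (hB : ∀ χ : IrrCharacter S, charDegree (χ : S → ℂ) ≠ 1 → B ≤ charDegree (χ : S → ℂ))
    (hr : ∀ l : ℕ, l.Prime → l ∣ r → l < B) : CompS p S := by
  have hpS : p ∣ Nat.card S := by
    have h1 : p ∣ d * Nat.card S := by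
      rw [h, hq, ← pow_mul]
      exact (dvd_pow_self p (by
        have : 1 ≤ k := Nat.one_le_iff_ne_zero.2 hk
        have : 1 ≤ k * N := Nat.mul_pos this hN
        omega)).mul_right _
    exact hd.symm.dvd_of_dvd_mul_left h1
  refine compS_of_large' hna hpS fun l hl hlp hlS χ hχ => ?_
  have h1 := hr l hl (dvd_of_dvd_pow_mul hl hp.1 hlp (N := N) (k := k) (by
    rw [← hq, ← h]
    exact hlS.mul_left _))
  have h2 := hB χ (by rw [hχ]; exact hl.ne_one)
  omega

variable {F : Type} [Field F] [Fintype F] {p : ℕ} [hp : Fact p.Prime] [CharP F p]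

theorem q_facts (h5 : 5 ≤ p) {q : ℕ} (hq : Fintype.card F = q) : (∃ k : ℕ, k ≠ 0 ∧ q = p ^ k) ∧ 5 ≤ q := by
  obtain ⟨k, hk, h⟩ := OrdCrit.exists_pow (F := F) hp.1
  refine ⟨⟨k, hk, hq ▸ h⟩, ?_⟩
  rw [← hq, h]
  calc 5 ≤ p := h5
    _ = p ^ 1 := (pow_one p).symm
    _ ≤ p ^ k := Nat.pow_le_pow_right hp.1.pos (Nat.one_le_iff_ne_zero.2 hk)

/-- `l ∣ q ^ (2 j) - 1`, `j ≤ m`. -/
theorem le_pow_even {l q j m : ℕ} (hl : l.Prime) (hq : 2 ≤ q) (hj : 1 ≤ j) (hjm : j ≤ m)
    (h : l ∣ q ^ (2 * j) - 1) : l ≤ q ^ m + 1 := by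
  have h1 := le_of_dvd_even hl hq hj h
  have h2 := Nat.pow_le_pow_right (show 0 < q by omega) hjm
  omega

theorem le_pow_sub {l q j m : ℕ} (hq : 2 ≤ q) (hj : 1 ≤ j) (hjm : j ≤ m)
    (h : l ∣ q ^ j - 1) : l ≤ q ^ m + 1 := by
  have h1 := le_of_dvd_sub hq hj h
  have h2 := Nat.pow_le_pow_right (show 0 < q by omega) hjm
  omega

theorem le_pow_add {l q j m : ℕ} (hq : 2 ≤ q) (hjm : j ≤ m)
    (h : l ∣ q ^ j + 1) : l ≤ q ^ m + 1 := by
  have h1 := Nat.le_of_dvd (by omega) h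
  have h2 := Nat.pow_le_pow_right (show 0 < q by omega) hjm
  omega

theorem e6 (h5 : 5 ≤ p) [IsSimpleGroup ↥(Lie.chevE6.group F)] (hna : ∃ a b : ↥(Lie.chevE6.group F), a * b ≠ b * a) :
    CompS p ↥(Lie.chevE6.group F) := by
  obtain ⟨q, hq⟩ : ∃ q, Fintype.card F = q := ⟨_, rfl⟩
  obtain ⟨⟨k, hk, hqp⟩, hq5⟩ := q_facts h5 hq
  have h1 := S1063.result (F := F) hq
  rw [mul_assoc, mul_assoc, mul_assoc, mul_assoc, mul_assoc] at h1
  refine compS_of_bound hna hk hqp (Nat.Coprime.coprime_dvd_left (Nat.gcd_dvd_right _ _)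
    (OrdCrit.coprime_sub hp.1 hk hqp)) (by norm_num) h1
    (B := q * (q ^ 6 + q ^ 3 + 1) * (q ^ 4 + 1)) (fun χ hχ => ?_) fun l hl h => ?_
  · exact le_degree (MonoidHom.id _) Function.surjective_id
      (fun k ρ hρ h2 => by have := S2340.result (F := F) k ρ hρ h2; rwa [hq] at this) χ hχ (degree_ne_zero χ)
  · have h2 : l ≤ q ^ 9 + 1 := by
      rcases hl.dvd_mul.1 h with h | h
      · exact le_pow_even (j := 1) hl (by omega) le_rfl (by norm_num) h
      rcases hl.dvd_mul.1 h with h | h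
      · exact le_pow_sub (by omega) (by norm_num) (by norm_num) h
      rcases hl.dvd_mul.1 h with h | h
      · exact le_pow_even (j := 3) hl (by omega) (by norm_num) (by norm_num) h
      rcases hl.dvd_mul.1 h with h | h
      · exact le_pow_even (j := 4) hl (by omega) (by norm_num) (by norm_num) h
      rcases hl.dvd_mul.1 h with h | h
      · exact le_pow_sub (by omega) (by norm_num) (by norm_num) h
      · exact le_pow_even (j := 6) hl (by omega) (by norm_num) (by norm_num) h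
    have h3 : q ^ 9 + 1 < q * (q ^ 6 + q ^ 3 + 1) * (q ^ 4 + 1) := by
      have h4 : q * q ^ 6 * q ^ 2 ≤ q * (q ^ 6 + q ^ 3 + 1) * q ^ 4 := by
        refine Nat.mul_le_mul (Nat.mul_le_mul le_rfl (by omega)) (Nat.pow_le_pow_right (by omega) (by norm_num))
      have h5 : q * q ^ 6 * q ^ 2 = q ^ 9 := by ring
      have h6 : q * (q ^ 6 + q ^ 3 + 1) * (q ^ 4 + 1) = q * (q ^ 6 + q ^ 3 + 1) * q ^ 4 + q * (q ^ 6 + q ^ 3 + 1) := by
        ring
      have h7 : 1 < q * (q ^ 6 + q ^ 3 + 1) := by nlinarith [Nat.zero_le (q ^ 6 + q ^ 3)]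
      omega
    omega

theorem e8 (h5 : 5 ≤ p) [IsSimpleGroup ↥(Lie.chevE8.group F)] (hna : ∃ a b : ↥(Lie.chevE8.group F), a * b ≠ b * a) :
    CompS p ↥(Lie.chevE8.group F) := by
  obtain ⟨q, hq⟩ : ∃ q, Fintype.card F = q := ⟨_, rfl⟩
  obtain ⟨⟨k, hk, hqp⟩, hq5⟩ := q_facts h5 hq
  have h1 := S1065.result (F := F) hq
  rw [mul_assoc, mul_assoc, mul_assoc, mul_assoc, mul_assoc, mul_assoc, mul_assoc, ← one_mul (Nat.card _)] at h1
  refine compS_of_bound hna hk hqp (Nat.coprime_one_left p) (by norm_num) h1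
    (B := q * (q ^ 12 + 1) * (q ^ 10 + 1) * (q ^ 6 + 1)) (fun χ hχ => ?_) fun l hl h => ?_
  · exact le_degree (MonoidHom.id _) Function.surjective_id
      (fun k ρ hρ h2 => by have := S2339.result (F := F) k ρ hρ h2; rwa [hq] at this) χ hχ (degree_ne_zero χ)
  · have h2 : l ≤ q ^ 15 + 1 := by
      rcases hl.dvd_mul.1 h with h | h
      · exact le_pow_even (j := 1) hl (by omega) le_rfl (by norm_num) h
      rcases hl.dvd_mul.1 h with h | h
      · exact le_pow_even (j := 4) hl (by omega) (by norm_num) (by norm_num) h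
      rcases hl.dvd_mul.1 h with h | h
      · exact le_pow_even (j := 6) hl (by omega) (by norm_num) (by norm_num) h
      rcases hl.dvd_mul.1 h with h | h
      · exact le_pow_even (j := 7) hl (by omega) (by norm_num) (by norm_num) h
      rcases hl.dvd_mul.1 h with h | h
      · exact le_pow_even (j := 9) hl (by omega) (by norm_num) (by norm_num) h
      rcases hl.dvd_mul.1 h with h | h
      · exact le_pow_even (j := 10) hl (by omega) (by norm_num) (by norm_num) h
      rcases hl.dvd_mul.1 h with h | h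
      · exact le_pow_even (j := 12) hl (by omega) (by norm_num) (by norm_num) h
      · exact le_pow_even (j := 15) hl (by omega) (by norm_num) (by norm_num) h
    have h3 : q ^ 15 + 1 < q * (q ^ 12 + 1) * (q ^ 10 + 1) * (q ^ 6 + 1) := by
      have h4 : 1 * q ^ 12 * q ^ 3 * 1 < q * (q ^ 12 + 1) * (q ^ 10 + 1) * (q ^ 6 + 1) := by
        have h5 : 1 * q ^ 12 * q ^ 3 * 1 ≤ 1 * (q ^ 12 + 1) * (q ^ 10 + 1) * (q ^ 6 + 1) :=
          Nat.mul_le_mul (Nat.mul_le_mul (Nat.mul_le_mul le_rfl (by omega))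
            (le_trans (Nat.pow_le_pow_right (by omega) (by norm_num)) (Nat.le_succ _))) (by omega)
        have h6 : 0 < (q ^ 12 + 1) * (q ^ 10 + 1) * (q ^ 6 + 1) := by positivity
        have h7 : q * (q ^ 12 + 1) * (q ^ 10 + 1) * (q ^ 6 + 1) = q * ((q ^ 12 + 1) * (q ^ 10 + 1) * (q ^ 6 + 1)) := by
          ring
        have h8 : 1 * (q ^ 12 + 1) * (q ^ 10 + 1) * (q ^ 6 + 1) = (q ^ 12 + 1) * (q ^ 10 + 1) * (q ^ 6 + 1) := by
          ring
        rw [h7]
        rw [h8] at h5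
        nlinarith
      have h5 : 1 * q ^ 12 * q ^ 3 * 1 = q ^ 15 := by ring
      have h6 : q * (q ^ 12 + 1) * (q ^ 10 + 1) * (q ^ 6 + 1) ≠ q ^ 15 + 1 := by
        intro h7
        have h8 : q ∣ q ^ 15 + 1 := by
          rw [← h7]
          exact Dvd.intro _ (by rw [mul_assoc, mul_assoc])
        have h9 : q ∣ 1 := (Nat.dvd_add_right (dvd_pow_self q (by norm_num))).1 h8
        have := Nat.le_of_dvd one_pos h9
        omega
      omega
    omega

theorem twE6 (h5 : 5 ≤ p) {q : ℕ} (hpp : IsPrimePow q) (hF : Fintype.card F = q ^ 2)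
    [IsSimpleGroup ↥(Lie.twistedE6 F q)] (hna : ∃ a b : ↥(Lie.twistedE6 F q), a * b ≠ b * a) :
    CompS p ↥(Lie.twistedE6 F q) := by
  obtain ⟨k, hk, hqp⟩ := OrdCrit.root_pow hp.1 (by norm_num) (OrdCrit.exists_pow (F := F) hp.1) hF
  have hq5 : 5 ≤ q := by
    rw [hqp]
    calc 5 ≤ p := h5
      _ = p ^ 1 := (pow_one p).symm
      _ ≤ p ^ k := Nat.pow_le_pow_right hp.1.pos (Nat.one_le_iff_ne_zero.2 hk)
  have h1 := S1066.result hpp hF
  rw [mul_assoc, mul_assoc, mul_assoc, mul_assoc, mul_assoc] at h1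
  refine compS_of_bound hna hk hqp (Nat.Coprime.coprime_dvd_left (Nat.gcd_dvd_right _ _)
    (OrdCrit.coprime_add hp.1 hk hqp)) (by norm_num) h1
    (B := q * (q ^ 6 - q ^ 3 + 1) * (q ^ 4 + 1)) (fun χ hχ => ?_) fun l hl h => ?_
  · exact le_degree (MonoidHom.id _) Function.surjective_id
      (fun k ρ hρ h2 => S2341.result (K := F) q hpp hF k ρ hρ h2) χ hχ (degree_ne_zero χ)
  · have h2 : l ≤ q ^ 9 + 1 := by
      rcases hl.dvd_mul.1 h with h | h
      · exact le_pow_even (j := 1) hl (by omega) le_rfl (by norm_num) h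
      rcases hl.dvd_mul.1 h with h | h
      · exact le_pow_add (by omega) (by norm_num) h
      rcases hl.dvd_mul.1 h with h | h
      · exact le_pow_even (j := 3) hl (by omega) (by norm_num) (by norm_num) h
      rcases hl.dvd_mul.1 h with h | h
      · exact le_pow_even (j := 4) hl (by omega) (by norm_num) (by norm_num) h
      rcases hl.dvd_mul.1 h with h | h
      · exact le_pow_add (by omega) (by norm_num) h
      · exact le_pow_even (j := 6) hl (by omega) (by norm_num) (by norm_num) h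
    have h3 : q ^ 9 + 1 < q * (q ^ 6 - q ^ 3 + 1) * (q ^ 4 + 1) := by
      have h4 : q ^ 4 ≤ q ^ 6 - q ^ 3 := by
        have h6 : q ^ 6 = q ^ 2 * q ^ 4 := by ring
        have h7 : q ^ 3 ≤ q ^ 4 := Nat.pow_le_pow_right (by omega) (by norm_num)
        have h8 : 2 ≤ q ^ 2 := by nlinarith
        have h9 : 2 * q ^ 4 ≤ q ^ 2 * q ^ 4 := Nat.mul_le_mul h8 le_rfl
        omega
      have h5 : q * (q ^ 4 + 1) * (q ^ 4 + 1) ≤ q * (q ^ 6 - q ^ 3 + 1) * (q ^ 4 + 1) :=
        Nat.mul_le_mul (Nat.mul_le_mul le_rfl (by omega)) le_rfl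
      have h6 : q * (q ^ 4 + 1) * (q ^ 4 + 1) = q ^ 9 + 2 * q ^ 5 + q := by ring
      omega
    omega

theorem twD4 (h5 : 5 ≤ p) {q : ℕ} (hpp : IsPrimePow q) (hF : Fintype.card F = q ^ 3)
    [IsSimpleGroup ↥(Lie.twistedD4 F q)] (hna : ∃ a b : ↥(Lie.twistedD4 F q), a * b ≠ b * a) :
    CompS p ↥(Lie.twistedD4 F q) := by
  obtain ⟨k, hk, hqp⟩ := OrdCrit.root_pow hp.1 (by norm_num) (OrdCrit.exists_pow (F := F) hp.1) hF
  have hq5 : 5 ≤ q := by
    rw [hqp]
    calc 5 ≤ p := h5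
      _ = p ^ 1 := (pow_one p).symm
      _ ≤ p ^ k := Nat.pow_le_pow_right hp.1.pos (Nat.one_le_iff_ne_zero.2 hk)
  have h1 := S1067.result hpp hF
  rw [mul_assoc, mul_assoc, ← one_mul (Nat.card _)] at h1
  refine compS_of_bound hna hk hqp (Nat.coprime_one_left p) (by norm_num) h1
    (B := q * (q ^ 4 - q ^ 2 + 1)) (fun χ hχ => ?_) fun l hl h => ?_
  · exact le_degree (MonoidHom.id _) Function.surjective_id
      (fun k ρ hρ h2 => S2342.result (K := F) q hpp hF k ρ hρ h2) χ hχ (degree_ne_zero χ)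
  · obtain ⟨s, hs⟩ : ∃ s, q ^ 2 = s := ⟨_, rfl⟩
    have hs25 : 25 ≤ s := by nlinarith
    have hq4 : q ^ 4 = s ^ 2 := by rw [← hs]; ring
    have hq8 : q ^ 8 = s ^ 4 := by rw [← hs]; ring
    have h9 : s ≤ s ^ 2 := by nlinarith
    have h2 : l ≤ s ^ 2 + s + 1 := by
      rcases hl.dvd_mul.1 h with h | h
      · have := le_pow_even (j := 1) (m := 2) hl (by omega) le_rfl (by norm_num) h
        omega
      rcases hl.dvd_mul.1 h with h | h
      · have := le_pow_even (j := 3) (m := 4) hl (by omega) (by norm_num) (by norm_num) h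
        omega
      · have h10 : q ^ 8 + q ^ 4 + 1 = (s ^ 2 + s + 1) * (s ^ 2 - s + 1) := by
          rw [hq8, hq4]
          obtain ⟨t, ht⟩ := Nat.exists_eq_add_of_le h9
          have h11 : s ^ 2 - s = t := by omega
          rw [h11]
          have h12 : t = s ^ 2 - s := h11.symm
          zify at ht h12 ⊢
          have h13 : (t : ℤ) = s ^ 2 - s := by linarith
          rw [h13]
          ring
        rw [h10] at h
        rcases hl.dvd_mul.1 h with h | h
        · exact Nat.le_of_dvd (by omega) h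
        · have := Nat.le_of_dvd (by omega) h
          omega
    have h3 : s ^ 2 + s + 1 < q * (q ^ 4 - q ^ 2 + 1) := by
      rw [hq4, hs]
      have h4 : 5 * (s ^ 2 - s + 1) ≤ q * (s ^ 2 - s + 1) := Nat.mul_le_mul hq5 le_rfl
      have h5 : 25 * s ≤ s ^ 2 := by nlinarith
      omega
    omega

theorem e7 (h5 : 5 ≤ p) [IsSimpleGroup ↥(Lie.chevE7.group F)] (hna : ∃ a b : ↥(Lie.chevE7.group F), a * b ≠ b * a) :
    CompS p ↥(Lie.chevE7.group F) := by
  obtain ⟨q, hq⟩ : ∃ q, Fintype.card F = q := ⟨_, rfl⟩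
  obtain ⟨⟨k, hk, hqp⟩, hq5⟩ := q_facts h5 hq
  have h1 := S1064.result (F := F) hq
  rw [mul_assoc, mul_assoc, mul_assoc, mul_assoc, mul_assoc, mul_assoc] at h1
  refine compS_of_bound hna hk hqp (Nat.Coprime.coprime_dvd_left (Nat.gcd_dvd_right _ _)
    (OrdCrit.coprime_sub hp.1 hk hqp)) (by norm_num) h1
    (B := q ^ 10) (fun χ hχ => ?_) fun l hl h => ?_
  · have := ChevHeis.degree_ge (F := F) (D := Lie.chevE7) (by simp) ChevHeis.chkE7 h5 hp.1 χ hχ
    rw [hq] at this
    exact this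
  · have h2 : l ≤ q ^ 9 + 1 := by
      rcases hl.dvd_mul.1 h with h | h
      · exact le_pow_even (j := 1) hl (by omega) le_rfl (by norm_num) h
      rcases hl.dvd_mul.1 h with h | h
      · exact le_pow_even (j := 3) hl (by omega) (by norm_num) (by norm_num) h
      rcases hl.dvd_mul.1 h with h | h
      · exact le_pow_even (j := 4) hl (by omega) (by norm_num) (by norm_num) h
      rcases hl.dvd_mul.1 h with h | h
      · exact le_pow_even (j := 5) hl (by omega) (by norm_num) (by norm_num) h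
      rcases hl.dvd_mul.1 h with h | h
      · exact le_pow_even (j := 6) hl (by omega) (by norm_num) (by norm_num) h
      rcases hl.dvd_mul.1 h with h | h
      · exact le_pow_even (j := 7) hl (by omega) (by norm_num) (by norm_num) h
      · exact le_pow_even (j := 9) hl (by omega) (by norm_num) (by norm_num) h
    have h3 : q ^ 9 + 1 < q ^ 10 := by
      have h4 : q ^ 10 = q * q ^ 9 := by ring
      have h6 : 1 ≤ q ^ 9 := Nat.one_le_pow _ _ (by omega)
      nlinarith
    omega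

theorem f4 (h5 : 5 ≤ p) [IsSimpleGroup ↥(Lie.chevF4.group F)] (hna : ∃ a b : ↥(Lie.chevF4.group F), a * b ≠ b * a) :
    CompS p ↥(Lie.chevF4.group F) := by
  obtain ⟨q, hq⟩ : ∃ q, Fintype.card F = q := ⟨_, rfl⟩
  obtain ⟨⟨k, hk, hqp⟩, hq5⟩ := q_facts h5 hq
  have h1 := S1062.result (F := F) hq
  rw [mul_assoc, mul_assoc, mul_assoc, ← one_mul (Nat.card _)] at h1
  refine compS_of_bound hna hk hqp (Nat.coprime_one_left p) (by norm_num) h1
    (B := q ^ 7) (fun χ hχ => ?_) fun l hl h => ?_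
  · have := ChevHeis.degree_ge (F := F) (D := Lie.chevF4) (by simp) ChevHeis.chkF4 h5 hp.1 χ hχ
    rw [hq] at this
    exact this
  · have h2 : l ≤ q ^ 6 + 1 := by
      rcases hl.dvd_mul.1 h with h | h
      · exact le_pow_even (j := 1) hl (by omega) le_rfl (by norm_num) h
      rcases hl.dvd_mul.1 h with h | h
      · exact le_pow_even (j := 3) hl (by omega) (by norm_num) (by norm_num) h
      rcases hl.dvd_mul.1 h with h | h
      · exact le_pow_even (j := 4) hl (by omega) (by norm_num) (by norm_num) h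
      · exact le_pow_even (j := 6) hl (by omega) (by norm_num) (by norm_num) h
    have h3 : q ^ 6 + 1 < q ^ 7 := by
      have h4 : q ^ 7 = q * q ^ 6 := by ring
      have h6 : 1 ≤ q ^ 6 := Nat.one_le_pow _ _ (by omega)
      nlinarith
    omega

/-- `G₂(q)`: a prime degree `≠ p` is `q² + q + 1`. -/
theorem g2 (h5 : 5 ≤ p) [IsSimpleGroup ↥(Lie.chevG2.group F)] :
    CompS p ↥(Lie.chevG2.group F) := by
  obtain ⟨q, hq⟩ : ∃ q, Fintype.card F = q := ⟨_, rfl⟩
  obtain ⟨⟨k, hk, hqp⟩, hq5⟩ := q_facts h5 hq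
  have h1 := S1059.result (F := F) hq
  rw [mul_assoc] at h1
  have key : ∀ χ : IrrCharacter ↥(Lie.chevG2.group F), (charDegree (χ : ↥(Lie.chevG2.group F) → ℂ)).Prime →
      charDegree (χ : ↥(Lie.chevG2.group F) → ℂ) ≠ p → charDegree (χ : ↥(Lie.chevG2.group F) → ℂ) = q ^ 2 + q + 1 := by
    intro χ hl hlp
    have h2 := ChevHeis.degree_ge (F := F) (D := Lie.chevG2) (by simp) ChevHeis.chkG2 h5 hp.1 χ hl.ne_one
    rw [hq] at h2
    have h3 : charDegree (χ : ↥(Lie.chevG2.group F) → ℂ) ∣ (q ^ 2 - 1) * (q ^ 6 - 1) := by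
      refine dvd_of_dvd_pow_mul hl hp.1 hlp (N := 6) (k := k) ?_
      rw [← hqp, ← h1]
      exact Blocks.Knorr.charDegree_dvd χ.2
    generalize charDegree (χ : ↥(Lie.chevG2.group F) → ℂ) = l at hl hlp h2 h3 ⊢
    change q ^ 2 ≤ l at h2
    have h4 : l ∣ q ^ 2 - 1 ∨ l ∣ q ^ 2 + q + 1 ∨ l ∣ q ^ 2 - q + 1 := by
      rcases hl.dvd_mul.1 h3 with h | h
      · exact Or.inl h
      · have h9 : q ≤ q ^ 2 := by nlinarith
        have h10 : q ^ 6 - 1 = (q ^ 2 - 1) * ((q ^ 2 + q + 1) * (q ^ 2 - q + 1)) := by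
          have h11 : 1 ≤ q ^ 2 := by nlinarith
          have h12 : 1 ≤ q ^ 6 := Nat.one_le_pow _ _ (by omega)
          zify [h9, h11, h12]
          ring
        rw [h10] at h
        rcases hl.dvd_mul.1 h with h | h
        · exact Or.inl h
        · exact Or.inr (hl.dvd_mul.1 h)
    have h9 : 5 * q ≤ q ^ 2 := by nlinarith
    rcases h4 with h | h | h
    · have := Nat.le_of_dvd (by omega) h
      omega
    · obtain ⟨c, hc⟩ := h
      have h10 : c < 2 := by
        by_contra h11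
        have : l * 2 ≤ l * c := Nat.mul_le_mul le_rfl (by omega)
        omega
      have h11 : c ≠ 0 := by
        rintro rfl
        omega
      have h12 : c = 1 := by omega
      rw [hc, h12, mul_one]
    · have := Nat.le_of_dvd (by omega) h
      omega
  refine compS_of_good (H443.GoodChev.good_chev (by omega) Lie.chevG2 (by simp)) fun χ ψ h1 h2 h3 h4 => ?_
  rw [key χ h1 h3, key ψ h2 h4]

end Cfsg.Agent.H741.Pd.OwnExc
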