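import Cfsg.Agent.H741.Pd.OwnCls
import Cfsg.Agent.H741.Pd.Small
import Cfsg.Agent.H949.GoodPsl
import Cfsg.Agent.S2299

/-!
# S4977, own characteristic: `PSL₂(q)` (helper741)
-/

set_option autoImplicit false

namespace Cfsg.Agent.H741.Pd

open Cfsg

/-- **`PSL₂(q)`, `p ∣ q`.** -/
theorem compS_psl_two {F : Type} [Field F] [Fintype F] {p : ℕ} [hp : Fact p.Prime] [CharP F p] (h5 : 5 ≤ p) :
    CompS p (Matrix.ProjectiveSpecialLinearGroup (Fin 2) F) := by
  obtain ⟨q, hq⟩ : ∃ q, Fintype.card F = q := ⟨_, rfl⟩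
  obtain ⟨⟨k, hk, hqp⟩, hq5⟩ := OwnExc.q_facts (F := F) h5 hq
  have hpodd : Odd p := hp.1.odd_of_ne_two (by omega)
  have hqodd : Odd q := by rw [hqp]; exact hpodd.pow
  by_cases hq55 : q = 5
  · obtain ⟨e⟩ := S0253.result (F := F) (by omega)
    exact CompS.of_equiv e (compS_alt_five hp.1 h5)
  · have key : ∀ χ : IrrCharacter (Matrix.ProjectiveSpecialLinearGroup (Fin 2) F),
        (charDegree (χ : Matrix.ProjectiveSpecialLinearGroup (Fin 2) F → ℂ)).Prime →
        charDegree (χ : Matrix.ProjectiveSpecialLinearGroup (Fin 2) F → ℂ) ≠ p →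
        charDegree (χ : Matrix.ProjectiveSpecialLinearGroup (Fin 2) F → ℂ) = (q + 1) / 2 ∨
        charDegree (χ : Matrix.ProjectiveSpecialLinearGroup (Fin 2) F → ℂ) = (q - 1) / 2 := by
      intro χ hl hlp
      have h1 := (S2299.result (F := F) (by rw [hq]; exact hqodd)).1 _
        (Characters.Core.isIrr_comp (QuotientGroup.mk' (Subgroup.center
        (Matrix.SpecialLinearGroup (Fin 2) F))) (QuotientGroup.mk'_surjective _) χ.2)
      rw [Function.comp_apply, map_one, hq] at h1
      have hd : ∀ d : ℕ, (χ : Matrix.ProjectiveSpecialLinearGroup (Fin 2) F → ℂ) 1 = (d : ℂ) →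
          charDegree (χ : Matrix.ProjectiveSpecialLinearGroup (Fin 2) F → ℂ) = d := fun d h => H687.charDegree_of_eq h
      rcases h1 with h1 | h1 | h1 | h1 | h1 | h1
      · exact absurd (hd 1 (by rw [h1, Nat.cast_one])) hl.ne_one
      · exfalso
        have h2 := hd q h1
        rw [h2, hqp] at hl
        have h3 : k = 1 := by
          by_contra h4
          exact Nat.Prime.not_prime_pow (by omega) hl
        rw [h2, hqp, h3, pow_one] at hlp
        exact hlp rfl
      · exfalso
        have h2 := hd (q + 1) (by rw [h1]; push_cast; ring)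
        rw [h2] at hl
        obtain ⟨t, ht⟩ := hqodd
        have := (Nat.prime_dvd_prime_iff_eq Nat.prime_two hl).1 (by omega)
        omega
      · exfalso
        have h2 := hd (q - 1) (by rw [h1, Nat.cast_sub (by omega), Nat.cast_one])
        rw [h2] at hl
        obtain ⟨t, ht⟩ := hqodd
        have := (Nat.prime_dvd_prime_iff_eq Nat.prime_two hl).1 (by omega)
        omega
      · exact Or.inl (hd _ h1)
      · exact Or.inr (hd _ h1)
    refine compS_of_good (H949.GoodPsl.good_psl2 (F := F) (by omega)) fun χ ψ h1 h2 h3 h4 => ?_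
    obtain ⟨t, ht⟩ := hqodd
    have e1 : (q + 1) / 2 = t + 1 := by omega
    have e2 : (q - 1) / 2 = t := by omega
    have hno : ¬ (t.Prime ∧ (t + 1).Prime) := by
      rintro ⟨h6, h7⟩
      rcases Nat.even_or_odd t with h8 | h8
      · have := (Nat.prime_dvd_prime_iff_eq Nat.prime_two h6).1 h8.two_dvd
        omega
      · have := (Nat.prime_dvd_prime_iff_eq Nat.prime_two h7).1 (h8.add_one).two_dvd
        omega
    have k1 := key χ h1 h3
    have k2 := key ψ h2 h4
    rw [e1, e2] at k1 k2
    rcases k1 with k1 | k1 <;> rcases k2 with k2 | k2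
    · rw [k1, k2]
    · exfalso
      rw [k1] at h1
      rw [k2] at h2
      exact hno ⟨h2, h1⟩
    · exfalso
      rw [k1] at h1
      rw [k2] at h2
      exact hno ⟨h1, h2⟩
    · rw [k1, k2]

end Cfsg.Agent.H741.Pd
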