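import Cfsg.Agent.H741.Pd.Over
import Cfsg.Agent.Characters.Central
import Cfsg.Agent.H626.RealOddE
import Cfsg.Agent.H681.DegBasic
import Cfsg.Agent.H600.Red

/-!
# S4977: reduction to simple groups (helper741)
-/

set_option autoImplicit false

namespace Cfsg.Agent.H741.Pd

open Cfsg Subgroup
open Cfsg.Agent.H687
open Cfsg.Agent.H626 (ip)
open Cfsg.Agent.Characters.Core
open scoped commutatorElement

universe u v

/-- A normal subgroup on which the character contains the trivial character is in the kernel. -/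
theorem apply_eq_of_ip_one {G : Type u} [Group G] [Finite G] (K : Subgroup G) [K.Normal] {χ : G → ℂ}
    (hχ : IsIrrCharacter G χ) (h0 : ip (fun k : K => χ k) 1 ≠ 0) (k : K) : χ k = χ 1 := by
  have h1 := H626.restrict_linear K hχ (α := 1) ⟨isIrr_one, rfl⟩ (fun g => by
    funext x
    rfl) h0 k
  rw [h1, Pi.one_apply, mul_one]

theorem isIrr_restrict_iff {G : Type u} [Group G] [Finite G] (N : Subgroup G) {χ : G → ℂ} (hχ : IsCharacter G χ)
    {ψ : N → ℂ} (hψ : IsIrrCharacter N ψ) (h : ip (fun x : N => χ x) ψ ≠ 0) (h1 : χ 1 = ψ 1) :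
    IsIrrCharacter N (fun x : N => χ x) := by
  have := Fintype.ofFinite G
  have := Fintype.ofFinite N
  rw [H626.ip_eq] at h
  rw [H681.DegBasic.restrict_eq_of_degree N hχ hψ h h1]
  exact hψ

/-- A restriction of prime degree to a minimal normal nonabelian subgroup. -/
theorem simple_of_prime {G : Type u} [Group G] [Finite G] (N : Subgroup G) [hN : N.Normal] (hN1 : N ≠ ⊥)
    (hmin : ∀ K : Subgroup G, K.Normal → K ≤ N → K = ⊥ ∨ K = N) (hna : ¬ ∀ a ∈ N, ∀ b ∈ N, a * b = b * a)
    {χ : G → ℂ} (hχ : IsIrrCharacter G χ) {r : ℕ} (hr : r.Prime) (hχ1 : χ 1 = r)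
    (hirr : IsIrrCharacter N (fun n : N => χ n)) : IsSimpleGroup N := by
  classical
  obtain ⟨S, hSN, hNS, hSs, hSna, hNC, -⟩ := H612.MinNormal.exists_factor N hN1 hmin hna
  obtain ⟨m, ρ, hρ, rfl⟩ := hχ
  -- the kernel
  obtain ⟨K, hK⟩ : ∃ K : Subgroup G, K = N ⊓ (ρ : G →* Module.End ℂ (Fin m → ℂ)).ker := ⟨_, rfl⟩
  have hKn : K.Normal := by
    rw [hK]
    infer_instance
  have hKbot : K = ⊥ := by
    rcases hmin K hKn (hK ▸ inf_le_left) with h | h
    · exact h
    exfalso
    have h1 : ∀ n : N, ρ.character n = (r : ℂ) := by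
      intro n
      have h2 : (n : G) ∈ K := by rw [h]; exact n.2
      rw [hK, Subgroup.mem_inf] at h2
      have h3 : ρ (n : G) = 1 := h2.2
      rw [← hχ1]
      exact (H600.Red.char_eq_one_iff ρ _).2 h3
    have h4 := H626.ip_self hirr
    have h5 : (fun n : N => ρ.character (n : G)) = (r : ℂ) • (1 : N → ℂ) := by
      funext n
      rw [h1 n]
      simp
    rw [h5, H626.ip_smul_left, H626.ip_smul_right, H626.ip_self isIrr_one, Complex.conj_natCast, mul_one] at h4
    have h6 : r * r = 1 := by exact_mod_cast h4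
    have := hr.two_le
    nlinarith
  have hker : ∀ n ∈ N, ρ n = 1 → n = 1 := by
    intro n hn h
    have : n ∈ K := by
      rw [hK]
      exact ⟨hn, h⟩
    rw [hKbot, Subgroup.mem_bot] at this
    exact this
  -- the restriction to `S`
  have hS' : (S.subgroupOf N).Normal := by
    refine ⟨fun a ha n => ?_⟩
    rw [Subgroup.mem_subgroupOf] at ha ⊢
    have h1 := (Subgroup.mem_normalizer_iff.1 (hNS n.2) a).1 ha
    simpa using h1
  let e : S.subgroupOf N ≃* S := Subgroup.subgroupOfEquivOfLe hSN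
  have hsimp' : IsSimpleGroup (S.subgroupOf N) := e.isSimpleGroup
  have hperf' : commutator (S.subgroupOf N) = ⊤ := by
    apply commutator_eq_top
    by_contra hcon
    push Not at hcon
    apply hSna
    refine ⟨⟨fun a b => ?_⟩⟩
    have h1 := hcon (e.symm a) (e.symm b)
    rw [← map_mul, ← map_mul] at h1
    exact e.symm.injective h1
  have := Fintype.ofFinite N
  have := Fintype.ofFinite (S.subgroupOf N)
  obtain ⟨ψ, d, hψ, hd, hψne, hdr⟩ := H681.DegBasic.exists_constituent (S.subgroupOf N) hirr (n := r) (by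
    show ρ.character ((1 : N) : G) = r
    exact hχ1)
  have hSirr : IsIrrCharacter (S.subgroupOf N) (fun s : S.subgroupOf N => ρ.character ((s : N) : G)) := by
    rcases (Nat.dvd_prime hr).1 hdr.1 with h1 | h1
    · exfalso
      have h2 : ψ = 1 := eq_one_of_degree hperf' hψ (charDegree_of_eq (by rw [hd, h1]))
      rw [h2] at hψne
      have h3 : ∀ s : S.subgroupOf N, s = 1 := by
        intro s
        have h4 := apply_eq_of_ip_one (S.subgroupOf N) hirr (by rw [H626.ip_eq]; exact hψne) s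
        have h5 : ρ ((s : N) : G) = 1 := (H600.Red.char_eq_one_iff ρ _).1 h4
        have h6 := hker _ (s : N).2 h5
        exact Subtype.ext (Subtype.ext h6)
      obtain ⟨a, ha⟩ := exists_ne (1 : S.subgroupOf N)
      exact ha (h3 a)
    · exact isIrr_restrict_iff (S.subgroupOf N) (isIrr_isCharacter hirr) hψ (by rw [H626.ip_eq]; exact hψne) (by
        rw [hd, h1]
        exact hχ1)
  obtain ⟨ρ', hρ'⟩ : ∃ ρ' : Representation ℂ (S.subgroupOf N) (Fin m → ℂ),
      ρ' = (MonoidHom.comp (ρ : G →* Module.End ℂ (Fin m → ℂ)) (N.subtype.comp (S.subgroupOf N).subtype)) := ⟨_, rfl⟩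
  have hρ'irr : ρ'.IsIrreducible := by
    apply isIrreducible_of_isIrrCharacter
    have : ρ'.character = fun s : S.subgroupOf N => ρ.character ((s : N) : G) := by
      rw [hρ']
      rfl
    rw [this]
    exact hSirr
  -- elements centralising `S`
  have hcent : ∀ c ∈ N, c ∈ Subgroup.centralizer (S : Set G) → c = 1 := by
    intro c hc hcS
    obtain ⟨z, hz⟩ := Characters.Central.exists_smul_of_comm _ hρ'irr (ρ c) (by
      intro s
      rw [hρ']
      show ρ c * ρ ((s : N) : G) = ρ ((s : N) : G) * ρ c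
      rw [← map_mul, ← map_mul]
      have h1 := Subgroup.mem_centralizer_iff.1 hcS ((s : N) : G) s.2
      rw [h1])
    -- `c` is central in `N`
    have hcZ : ∀ n ∈ N, n * c = c * n := by
      intro n hn
      have h1 : ρ (n * c * n⁻¹ * c⁻¹) = 1 := by
        rw [map_mul, map_mul, map_mul, hz]
        have h2 : ρ n * (z • 1) * ρ n⁻¹ = z • (1 : Module.End ℂ (Fin m → ℂ)) := by
          rw [mul_smul_comm, mul_one, smul_mul_assoc, ← map_mul, mul_inv_cancel, map_one]
        rw [h2, ← hz, ← map_mul, mul_inv_cancel, map_one]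
      have h3 := hker _ (N.mul_mem (hN.conj_mem c hc n) (N.inv_mem hc)) h1
      rw [mul_inv_eq_one, mul_inv_eq_iff_eq_mul] at h3
      exact h3
    have hZn : ((Subgroup.center N).map N.subtype).Normal := inferInstance
    rcases hmin _ hZn (Subgroup.map_subtype_le _) with h | h
    · have h1 : (⟨c, hc⟩ : N) ∈ Subgroup.center N := by
        rw [Subgroup.mem_center_iff]
        intro n
        exact Subtype.ext (hcZ n n.2)
      have h2 : c ∈ (Subgroup.center N).map N.subtype := ⟨⟨c, hc⟩, h1, rfl⟩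
      rw [h, Subgroup.mem_bot] at h2
      exact h2
    · exfalso
      apply hna
      intro a ha b hb
      rw [← h] at ha
      obtain ⟨a', ha', rfl⟩ := ha
      have := Subgroup.mem_center_iff.1 ha' ⟨b, hb⟩
      exact (congrArg Subtype.val this).symm
  have hNeq : N = S := by
    refine le_antisymm (fun n hn => ?_) hSN
    have h1 := hNC hn
    have h2 : (S : Subgroup G) ⊔ Subgroup.centralizer (S : Set G) ≤
        { carrier := {g | ∃ s ∈ S, ∃ c ∈ Subgroup.centralizer (S : Set G), g = s * c}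
          one_mem' := ⟨1, one_mem _, 1, one_mem _, by simp⟩
          mul_mem' := by
            rintro _ _ ⟨s, hs, c, hc, rfl⟩ ⟨s', hs', c', hc', rfl⟩
            refine ⟨s * s', S.mul_mem hs hs', c * c', Subgroup.mul_mem _ hc hc', ?_⟩
            have := Subgroup.mem_centralizer_iff.1 hc s' hs'
            calc s * c * (s' * c') = s * (c * s') * c' := by group
              _ = s * (s' * c) * c' := by rw [this]
              _ = s * s' * (c * c') := by group
          inv_mem' := by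
            rintro _ ⟨s, hs, c, hc, rfl⟩
            refine ⟨s⁻¹, S.inv_mem hs, c⁻¹, Subgroup.inv_mem _ hc, ?_⟩
            have := Subgroup.mem_centralizer_iff.1 (Subgroup.inv_mem _ hc) s⁻¹ (S.inv_mem hs)
            rw [mul_inv_rev, this] } := by
      refine sup_le (fun s hs => ⟨s, hs, 1, one_mem _, (mul_one s).symm⟩) (fun c hc => ⟨1, one_mem _, c, hc, (one_mul c).symm⟩)
    obtain ⟨s, hs, c, hc, rfl⟩ := h2 h1
    have h3 : c = 1 := hcent c (by
      have := N.mul_mem (N.inv_mem (hSN hs)) hn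
      rwa [inv_mul_cancel_left] at this) hc
    rw [h3, mul_one]
    exact hs
  rw [hNeq]
  exact hSs

theorem conjNormal_inv {G : Type u} [Group G] (N : Subgroup G) [hN : N.Normal] (P : Subgroup G) {θ : N → ℂ}
    (h : ∀ φ ∈ P.map (MulAut.conjNormal (H := N)), ∀ s : N, θ (φ s) = θ s) :
    ∀ g ∈ P, ∀ n : N, θ ⟨g * n * g⁻¹, hN.conj_mem (n : G) n.2 g⟩ = θ n := by
  intro g hg n
  have h1 := h _ ⟨g, hg, rfl⟩ n
  rw [← h1]
  rfl

/-- An invariant nonlinear irreducible character of degree prime to `p`. -/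
theorem exists_inv {G : Type u} [Group G] [Finite G] (N : Subgroup G) [hN : N.Normal] {p : ℕ} [hp : Fact p.Prime]
    (P : Sylow p G) (hperf : commutator N = ⊤)
    (hfix : ¬ p ∣ Nat.card N → N ⊓ centralizer ((P : Subgroup G) : Set G) ≠ ⊥) :
    ∃ θ : IrrCharacter N, charDegree (θ : N → ℂ) ≠ 1 ∧ ¬ p ∣ charDegree (θ : N → ℂ) ∧
      ∀ g ∈ (P : Subgroup G), ∀ n : N, (θ : N → ℂ) ⟨g * n * g⁻¹, hN.conj_mem (n : G) n.2 g⟩ = (θ : N → ℂ) n := by
  classical
  by_cases hpN : p ∣ Nat.card N
  · obtain ⟨θ, h1, h2, h3⟩ := exists_fixed hperf hpN _ (P.2.map (MulAut.conjNormal (H := N)))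
    exact ⟨θ, h1, h2, conjNormal_inv N _ h3⟩
  · have := Fintype.ofFinite G
    have := Fintype.ofFinite N
    obtain ⟨n, hn⟩ := P.2.exists_card_eq
    have hcop : (Nat.card N).Coprime (Nat.card (P : Subgroup G)) := by
      rw [hn]
      exact Nat.Coprime.pow_right n (((Nat.Prime.coprime_iff_not_dvd hp.1).2 hpN).symm)
    have hsolv : Group.IsSolvable (P : Subgroup G) := by
      have := P.2.isNilpotent
      infer_instance
    have key := S4445.result N (P : Subgroup G) (fun s _ g hg => hN.conj_mem g hg s) hcop hsolv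
    have : Finite (IrrCharacter N) := finite_irr
    obtain ⟨c, hc, hc1⟩ : ∃ c : G, c ∈ N ⊓ centralizer ((P : Subgroup G) : Set G) ∧ c ≠ 1 := by
      by_contra hcon
      push Not at hcon
      exact hfix hpN ((Subgroup.eq_bot_iff_forall _).2 hcon)
    have hcN : c ∈ N := hc.1
    have hcP : ∀ s ∈ (P : Subgroup G), s * c = c * s := fun s hs => Subgroup.mem_centralizer_iff.1 hc.2 s hs
    have hinvcls : ∀ d : N, (∀ s ∈ (P : Subgroup G), s * (d : G) = d * s) →
        ∀ s ∈ (P : Subgroup G), ∀ g g' : N, (g' : G) = s * g * s⁻¹ → ConjClasses.mk g = ConjClasses.mk d →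
          ConjClasses.mk g' = ConjClasses.mk d := by
      intro d hd s hs g g' hg' hg
      rw [ConjClasses.mk_eq_mk_iff_isConj] at hg ⊢
      obtain ⟨x, hx⟩ := isConj_iff.1 hg
      have hx' : (x : G) * g * (x : G)⁻¹ = d := congrArg Subtype.val hx
      refine isConj_iff.2 ⟨⟨s * x * s⁻¹, hN.conj_mem _ x.2 s⟩, Subtype.ext ?_⟩
      show (s * x * s⁻¹) * (g' : G) * (s * x * s⁻¹)⁻¹ = d
      rw [hg']
      have h2 : (s * x * s⁻¹) * (s * (g : G) * s⁻¹) * (s * (x : G) * s⁻¹)⁻¹ = s * (x * g * (x : G)⁻¹) * s⁻¹ := by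
        group
      rw [h2, hx', hd s hs, mul_inv_cancel_right]
    have h2 : 1 < Nat.card {K : ConjClasses N // ∀ s ∈ (P : Subgroup G), ∀ g g' : N, (g' : G) = s * g * s⁻¹ →
        ConjClasses.mk g = K → ConjClasses.mk g' = K} := by
      rw [Finite.one_lt_card_iff_nontrivial]
      refine ⟨⟨ConjClasses.mk 1, hinvcls 1 (fun s _ => by simp)⟩,
        ⟨ConjClasses.mk ⟨c, hcN⟩, hinvcls ⟨c, hcN⟩ hcP⟩, ?_⟩
      intro h
      have h3 := congrArg Subtype.val h
      simp only at h3
      rw [ConjClasses.mk_eq_mk_iff_isConj, isConj_one_right] at h3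
      exact hc1 (congrArg Subtype.val h3)
    rw [← key, Finite.one_lt_card_iff_nontrivial] at h2
    obtain ⟨⟨θ, hθ⟩, hne⟩ := exists_ne (α := {χ : IrrCharacter N // ∀ s ∈ (P : Subgroup G), ∀ g g' : N,
      (g' : G) = s * g * s⁻¹ → (χ : N → ℂ) g' = (χ : N → ℂ) g}) ⟨⟨1, isIrr_one⟩, fun s _ g g' _ => rfl⟩
    refine ⟨θ, ?_, ?_, ?_⟩
    · intro h3
      apply hne
      exact Subtype.ext (Subtype.ext (eq_one_of_degree hperf θ.2 h3))
    · intro h3
      exact hpN (h3.trans (Blocks.Knorr.charDegree_dvd θ.2))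
    · intro g hg n
      exact hθ g hg n _ rfl

theorem degree_dvd {G : Type u} [Group G] [Finite G] (N : Subgroup G) [hN : N.Normal] (χ : IrrCharacter G)
    (θ : IrrCharacter N) (h : ip (fun n : N => (χ : G → ℂ) n) (θ : N → ℂ) ≠ 0) :
    charDegree (θ : N → ℂ) ∣ charDegree (χ : G → ℂ) := by
  have := Fintype.ofFinite G
  have := Fintype.ofFinite N
  rw [H626.ip_eq] at h
  exact (S0887.result N χ χ.2 θ θ.2 h _ _ (Irr.one_eq χ) (Irr.one_eq θ)).1

/-- **The reduction.** -/
theorem reduction {p : ℕ} [hp : Fact p.Prime]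
    (htab : ∀ (S : Type u) [Group S] [Finite S] [IsSimpleGroup S], (∃ a b : S, a * b ≠ b * a) → CompS p S)
    (hfix : ∀ (X : Type u) [Group X] [Finite X] (A G : Subgroup X), A ≤ normalizer (G : Set X) →
      (Nat.card A).Coprime (Nat.card G) → ¬ Group.IsSolvable G → G ⊓ centralizer (A : Set X) ≠ ⊥) :
    ∀ (n : ℕ) (G : Type u) [Group G] [Finite G], Nat.card G = n →
      (∀ χ : IrrCharacter G, ¬ p ∣ charDegree (χ : G → ℂ) →
        (charDegree (χ : G → ℂ) = 1 ∨ (charDegree (χ : G → ℂ)).Prime)) → Group.IsSolvable G := by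
  intro n
  induction n using Nat.strong_induction_on with
  | _ n ih =>
  intro G _ _ hn H
  by_contra hns
  have hnt : Nontrivial G := by
    by_contra h
    rw [not_nontrivial_iff_subsingleton] at h
    exact hns (by infer_instance)
  -- a minimal normal subgroup
  obtain ⟨N, hN, hN1, hmin⟩ : ∃ N : Subgroup G, N.Normal ∧ N ≠ ⊥ ∧
      ∀ K : Subgroup G, K.Normal → K ≤ N → K = ⊥ ∨ K = N := by
    have hne : ({K : Subgroup G | K.Normal ∧ K ≠ ⊥}).Nonempty := ⟨⊤, inferInstance, top_ne_bot⟩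
    obtain ⟨N, hN⟩ := (Set.toFinite {K : Subgroup G | K.Normal ∧ K ≠ ⊥}).exists_minimal hne
    refine ⟨N, hN.1.1, hN.1.2, fun K hK hle => ?_⟩
    by_cases h : K = ⊥
    · exact Or.inl h
    · exact Or.inr (le_antisymm hle (hN.2 ⟨hK, h⟩ hle))
  -- the quotient
  have hquot : Group.IsSolvable (G ⧸ N) := by
    refine ih (Nat.card (G ⧸ N)) ?_ (G ⧸ N) rfl ?_
    · rw [← hn, ← N.card_mul_index]
      have h1 : 1 < Nat.card N := by
        rw [Subgroup.one_lt_card_iff_ne_bot]
        exact hN1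
      have h2 : 0 < N.index := Nat.pos_of_ne_zero N.index_ne_zero_of_finite
      show N.index < _
      nlinarith
    · intro χ hχ
      have h1 : charDegree ((χ : G ⧸ N → ℂ) ∘ (QuotientGroup.mk' N)) = charDegree (χ : G ⧸ N → ℂ) :=
        charDegree_comp _ _
      have h2 := H ⟨(χ : G ⧸ N → ℂ) ∘ (QuotientGroup.mk' N),
        isIrr_comp _ (QuotientGroup.mk'_surjective N) χ.2⟩ (by
          show ¬ p ∣ charDegree ((χ : G ⧸ N → ℂ) ∘ (QuotientGroup.mk' N))
          rwa [h1])
      change charDegree ((χ : G ⧸ N → ℂ) ∘ (QuotientGroup.mk' N)) = 1 ∨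
        (charDegree ((χ : G ⧸ N → ℂ) ∘ (QuotientGroup.mk' N))).Prime at h2
      rwa [h1] at h2
  have hNns : ¬ Group.IsSolvable N := by
    intro h
    exact hns (Group.isSolvable_of_ker_le_range N.subtype (QuotientGroup.mk' N) (by simp))
  have hna : ¬ ∀ a ∈ N, ∀ b ∈ N, a * b = b * a := by
    intro h
    apply hNns
    exact Group.isSolvable_of_comm fun a b => Subtype.ext (h a a.2 b b.2)
  have hperf : commutator N = ⊤ := by
    rcases hmin ((commutator N).map N.subtype) inferInstance (Subgroup.map_subtype_le _) with h | h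
    · exfalso
      apply hna
      intro a ha b hb
      have h1 : ⁅(⟨a, ha⟩ : N), (⟨b, hb⟩ : N)⁆ ∈ commutator N :=
        Subgroup.commutator_mem_commutator (Subgroup.mem_top _) (Subgroup.mem_top _)
      have h2 : ((⁅(⟨a, ha⟩ : N), (⟨b, hb⟩ : N)⁆ : N) : G) ∈ (commutator N).map N.subtype := ⟨_, h1, rfl⟩
      rw [h, Subgroup.mem_bot] at h2
      have h3 : ⁅(⟨a, ha⟩ : N), (⟨b, hb⟩ : N)⁆ = 1 := Subtype.ext h2
      rw [commutatorElement_eq_one_iff_mul_comm] at h3
      exact congrArg Subtype.val h3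
    · rw [eq_top_iff]
      intro x _
      have h1 : (x : G) ∈ (commutator N).map N.subtype := by rw [h]; exact x.2
      obtain ⟨y, hy, hyx⟩ := h1
      have : y = x := Subtype.ext hyx
      rwa [← this]
  let P : Sylow p G := default
  have hfix' : ¬ p ∣ Nat.card N → N ⊓ centralizer ((P : Subgroup G) : Set G) ≠ ⊥ := by
    intro hpN
    refine hfix G (P : Subgroup G) N ?_ ?_ hNns
    · rw [Subgroup.normalizer_eq_top]
      exact le_top
    · obtain ⟨k, hk⟩ := P.2.exists_card_eq
      rw [hk]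
      exact Nat.Coprime.pow_left k ((Nat.Prime.coprime_iff_not_dvd hp.1).2 hpN)
  obtain ⟨θ, hθ1, hθp, hθinv⟩ := exists_inv N P hperf hfix'
  obtain ⟨χ, hχp, hχθ⟩ := exists_over N P hperf θ hθp hθinv
  have hdvd := degree_dvd N χ θ hχθ
  have hχr : (charDegree (χ : G → ℂ)).Prime := by
    rcases H χ hχp with h | h
    · exfalso
      rw [h, Nat.dvd_one] at hdvd
      exact hθ1 hdvd
    · exact h
  have heq : charDegree (θ : N → ℂ) = charDegree (χ : G → ℂ) :=
    ((Nat.dvd_prime hχr).1 hdvd).resolve_left hθ1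
  have hirr : IsIrrCharacter N (fun n : N => (χ : G → ℂ) n) := by
    refine isIrr_restrict_iff N (isIrr_isCharacter χ.2) θ.2 hχθ ?_
    rw [Irr.one_eq, Irr.one_eq, heq]
  have hsimp : IsSimpleGroup N := simple_of_prime N hN1 hmin hna χ.2 hχr (Irr.one_eq χ) hirr
  have hna' : ∃ a b : N, a * b ≠ b * a := by
    by_contra hcon
    push Not at hcon
    exact hna fun a ha b hb => congrArg Subtype.val (hcon ⟨a, ha⟩ ⟨b, hb⟩)
  obtain ⟨θ', h1, h2, h3, h4⟩ := htab N hna' _ (P.2.map (MulAut.conjNormal (H := N)))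
  obtain ⟨χ', hχ'p, hχθ'⟩ := exists_over N P hperf θ' h1 (conjNormal_inv N _ h4)
  have hdvd' := degree_dvd N χ' θ' hχθ'
  rcases H χ' hχ'p with h | h
  · rw [h, Nat.dvd_one] at hdvd'
    exact h2 hdvd'
  · rcases (Nat.dvd_prime h).1 hdvd' with h5 | h5
    · exact h2 h5
    · exact h3 (by rw [h5]; exact h)

end Cfsg.Agent.H741.Pd
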