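import Cfsg.Agent.H741.Pd.Sieve
import Cfsg.Agent.H679.OutTwo

/-!
# S4977: the table for the sporadic groups and the Tits group, from their orders (helper741)
-/

set_option autoImplicit false

namespace Cfsg.Agent.H741.Pd

open Cfsg Subgroup
open Cfsg.Agent.H679

universe u

/-- If every automorphism has a `2`-power power which is inner then `p`-automorphisms are inner. -/
theorem innerP_of_outTwo {S : Type u} [Group S] (h : OutTwo S) {p : ℕ} (hp : p.Prime) (hp2 : p ≠ 2) : InnerP p S := by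
  rintro φ ⟨k, hk⟩
  obtain ⟨n, g, hg⟩ := h φ
  have hcop : Nat.Coprime (p ^ k) (2 ^ n) :=
    Nat.Coprime.pow _ _ ((Nat.coprime_primes hp Nat.prime_two).2 hp2)
  have h1 := Nat.gcd_eq_gcd_ab (p ^ k) (2 ^ n)
  rw [Nat.Coprime.gcd_eq_one hcop] at h1
  have h2 : φ = (φ ^ (p ^ k)) ^ (Nat.gcdA (p ^ k) (2 ^ n)) * (φ ^ (2 ^ n)) ^ (Nat.gcdB (p ^ k) (2 ^ n)) := by
    rw [← zpow_natCast φ (p ^ k), ← zpow_natCast φ (2 ^ n), ← zpow_mul, ← zpow_mul, ← zpow_add, ← h1]
    simp
  refine ⟨g ^ (Nat.gcdB (p ^ k) (2 ^ n)), ?_⟩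
  rw [h2, hk, one_zpow, one_mul, ← hg, map_zpow]

/-- The check for one prime. -/
def chk1 (n : ℕ) (L : List ℕ) (x : ℕ × ℕ) : Bool :=
  L.contains x.2 && x.2 != 2 && n % x.2 == 0 && n % (x.2 ^ 2) != 0 && chk x.2 x.1 L

/-- **The table from the order.** `L`: the primes of `n`; `Q`: for each prime `p ≥ 5` of `L` a prime `l`. -/
theorem compS_of_order {S : Type u} [Group S] [Finite S] [IsSimpleGroup S] (hna : ∃ a b : S, a * b ≠ b * a)
    (hout : OutTwo S) {n k : ℕ} (hS : Nat.card S = n) {L : List ℕ} {Q : List (ℕ × ℕ)} (hLp : ∀ r ∈ L, r.Prime)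
    (hn : n ∣ L.prod ^ k) (hQ : Q.all (chk1 n L) = true)
    (hLQ : (L.all fun p => decide (p < 5) || (Q.map Prod.fst).contains p) = true ∧ Q ≠ [] ∧
      (Q.all fun x => L.contains x.1) = true)
    {p : ℕ} (hp : p.Prime) (h5 : 5 ≤ p) : CompS p S := by
  have hL : ∀ r : ℕ, r.Prime → r ∣ Nat.card S → r ∈ L := fun r hr hrS =>
    mem_of_prime_dvd hLp (hS ▸ hn) hr hrS
  have key : ∀ q l : ℕ, (q, l) ∈ Q → ∃ χ : IrrCharacter S, ¬ q ∣ charDegree (χ : S → ℂ) ∧
      charDegree (χ : S → ℂ) ≠ 1 ∧ ¬ (charDegree (χ : S → ℂ)).Prime := by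
    intro q l hql
    have h1 := List.all_eq_true.1 hQ _ hql
    simp only [chk1, Bool.and_eq_true, bne_iff_ne, beq_iff_eq, List.contains_iff_mem] at h1
    obtain ⟨⟨⟨⟨h2, h3⟩, h4⟩, h6⟩, h7⟩ := h1
    have hq : q ∈ L := by
      have := List.all_eq_true.1 hLQ.2.2 _ hql
      simpa using this
    exact sieve hna (hLp q hq) (hLp l h2) h3 (by rw [hS]; exact Nat.dvd_of_mod_eq_zero h4)
      (by rw [hS]; exact fun h => h6 (Nat.mod_eq_zero_of_dvd h)) hL h7
  refine compS_of_inner (innerP_of_outTwo hout hp (by omega)) ?_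
  by_cases hpL : p ∈ L
  · have h1 := List.all_eq_true.1 hLQ.1 p hpL
    simp only [Bool.or_eq_true, decide_eq_true_eq, List.contains_iff_mem, List.mem_map, Prod.exists] at h1
    rcases h1 with h1 | ⟨q, l, h1, h2⟩
    · omega
    · rw [← h2]
      exact key q l h1
  · obtain ⟨⟨q, l⟩, hx⟩ := List.exists_mem_of_ne_nil _ hLQ.2.1
    obtain ⟨χ, -, h2, h3⟩ := key q l hx
    refine ⟨χ, fun h4 => hpL (hL p hp (h4.trans (Blocks.Knorr.charDegree_dvd χ.2))), h2, h3⟩

theorem m11 {S : Type u} [Group S] [Finite S] [IsSimpleGroup S] (hna : ∃ a b : S, a * b ≠ b * a)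
    (hout : OutTwo S) (hS : Nat.card S = 7920) {p : ℕ} (hp : p.Prime) (h5 : 5 ≤ p) : CompS p S :=
  compS_of_order (n := 7920) (k := 4) (L := [2, 3, 5, 11]) (Q := [(5, 11), (11, 5)])
    hna hout hS (by intro r hr; fin_cases hr <;> norm_num) (by norm_num) (by decide +kernel) (by decide) hp h5

theorem m12 {S : Type u} [Group S] [Finite S] [IsSimpleGroup S] (hna : ∃ a b : S, a * b ≠ b * a)
    (hout : OutTwo S) (hS : Nat.card S = 95040) {p : ℕ} (hp : p.Prime) (h5 : 5 ≤ p) : CompS p S :=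
  compS_of_order (n := 95040) (k := 6) (L := [2, 3, 5, 11]) (Q := [(5, 11), (11, 5)])
    hna hout hS (by intro r hr; fin_cases hr <;> norm_num) (by norm_num) (by decide +kernel) (by decide) hp h5

theorem j1 {S : Type u} [Group S] [Finite S] [IsSimpleGroup S] (hna : ∃ a b : S, a * b ≠ b * a)
    (hout : OutTwo S) (hS : Nat.card S = 175560) {p : ℕ} (hp : p.Prime) (h5 : 5 ≤ p) : CompS p S :=
  compS_of_order (n := 175560) (k := 3) (L := [2, 3, 5, 7, 11, 19]) (Q := [(5, 11), (7, 7), (11, 7), (19, 7)])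
    hna hout hS (by intro r hr; fin_cases hr <;> norm_num) (by norm_num) (by decide +kernel) (by decide) hp h5

theorem m22 {S : Type u} [Group S] [Finite S] [IsSimpleGroup S] (hna : ∃ a b : S, a * b ≠ b * a)
    (hout : OutTwo S) (hS : Nat.card S = 443520) {p : ℕ} (hp : p.Prime) (h5 : 5 ≤ p) : CompS p S :=
  compS_of_order (n := 443520) (k := 7) (L := [2, 3, 5, 7, 11]) (Q := [(5, 7), (7, 7), (11, 5)])
    hna hout hS (by intro r hr; fin_cases hr <;> norm_num) (by norm_num) (by decide +kernel) (by decide) hp h5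

theorem j2 {S : Type u} [Group S] [Finite S] [IsSimpleGroup S] (hna : ∃ a b : S, a * b ≠ b * a)
    (hout : OutTwo S) (hS : Nat.card S = 604800) {p : ℕ} (hp : p.Prime) (h5 : 5 ≤ p) : CompS p S :=
  compS_of_order (n := 604800) (k := 7) (L := [2, 3, 5, 7]) (Q := [(5, 7), (7, 7)])
    hna hout hS (by intro r hr; fin_cases hr <;> norm_num) (by norm_num) (by decide +kernel) (by decide) hp h5

theorem m23 {S : Type u} [Group S] [Finite S] [IsSimpleGroup S] (hna : ∃ a b : S, a * b ≠ b * a)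
    (hout : OutTwo S) (hS : Nat.card S = 10200960) {p : ℕ} (hp : p.Prime) (h5 : 5 ≤ p) : CompS p S :=
  compS_of_order (n := 10200960) (k := 7) (L := [2, 3, 5, 7, 11, 23]) (Q := [(5, 7), (7, 7), (11, 5), (23, 7)])
    hna hout hS (by intro r hr; fin_cases hr <;> norm_num) (by norm_num) (by decide +kernel) (by decide) hp h5

theorem hs {S : Type u} [Group S] [Finite S] [IsSimpleGroup S] (hna : ∃ a b : S, a * b ≠ b * a)
    (hout : OutTwo S) (hS : Nat.card S = 44352000) {p : ℕ} (hp : p.Prime) (h5 : 5 ≤ p) : CompS p S :=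
  compS_of_order (n := 44352000) (k := 9) (L := [2, 3, 5, 7, 11]) (Q := [(5, 7), (7, 7), (11, 7)])
    hna hout hS (by intro r hr; fin_cases hr <;> norm_num) (by norm_num) (by decide +kernel) (by decide) hp h5

theorem j3 {S : Type u} [Group S] [Finite S] [IsSimpleGroup S] (hna : ∃ a b : S, a * b ≠ b * a)
    (hout : OutTwo S) (hS : Nat.card S = 50232960) {p : ℕ} (hp : p.Prime) (h5 : 5 ≤ p) : CompS p S :=
  compS_of_order (n := 50232960) (k := 7) (L := [2, 3, 5, 17, 19]) (Q := [(5, 17), (17, 17), (19, 5)])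
    hna hout hS (by intro r hr; fin_cases hr <;> norm_num) (by norm_num) (by decide +kernel) (by decide) hp h5

theorem m24 {S : Type u} [Group S] [Finite S] [IsSimpleGroup S] (hna : ∃ a b : S, a * b ≠ b * a)
    (hout : OutTwo S) (hS : Nat.card S = 244823040) {p : ℕ} (hp : p.Prime) (h5 : 5 ≤ p) : CompS p S :=
  compS_of_order (n := 244823040) (k := 10) (L := [2, 3, 5, 7, 11, 23]) (Q := [(5, 7), (7, 7), (11, 5), (23, 7)])
    hna hout hS (by intro r hr; fin_cases hr <;> norm_num) (by norm_num) (by decide +kernel) (by decide) hp h5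

theorem mcl {S : Type u} [Group S] [Finite S] [IsSimpleGroup S] (hna : ∃ a b : S, a * b ≠ b * a)
    (hout : OutTwo S) (hS : Nat.card S = 898128000) {p : ℕ} (hp : p.Prime) (h5 : 5 ≤ p) : CompS p S :=
  compS_of_order (n := 898128000) (k := 7) (L := [2, 3, 5, 7, 11]) (Q := [(5, 7), (7, 7), (11, 7)])
    hna hout hS (by intro r hr; fin_cases hr <;> norm_num) (by norm_num) (by decide +kernel) (by decide) hp h5

theorem he {S : Type u} [Group S] [Finite S] [IsSimpleGroup S] (hna : ∃ a b : S, a * b ≠ b * a)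
    (hout : OutTwo S) (hS : Nat.card S = 4030387200) {p : ℕ} (hp : p.Prime) (h5 : 5 ≤ p) : CompS p S :=
  compS_of_order (n := 4030387200) (k := 10) (L := [2, 3, 5, 7, 17]) (Q := [(5, 17), (7, 17), (17, 17)])
    hna hout hS (by intro r hr; fin_cases hr <;> norm_num) (by norm_num) (by decide +kernel) (by decide) hp h5

theorem ru {S : Type u} [Group S] [Finite S] [IsSimpleGroup S] (hna : ∃ a b : S, a * b ≠ b * a)
    (hout : OutTwo S) (hS : Nat.card S = 145926144000) {p : ℕ} (hp : p.Prime) (h5 : 5 ≤ p) : CompS p S :=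
  compS_of_order (n := 145926144000) (k := 14) (L := [2, 3, 5, 7, 13, 29]) (Q := [(5, 13), (7, 29), (13, 13), (29, 13)])
    hna hout hS (by intro r hr; fin_cases hr <;> norm_num) (by norm_num) (by decide +kernel) (by decide) hp h5

theorem suz {S : Type u} [Group S] [Finite S] [IsSimpleGroup S] (hna : ∃ a b : S, a * b ≠ b * a)
    (hout : OutTwo S) (hS : Nat.card S = 448345497600) {p : ℕ} (hp : p.Prime) (h5 : 5 ≤ p) : CompS p S :=
  compS_of_order (n := 448345497600) (k := 13) (L := [2, 3, 5, 7, 11, 13]) (Q := [(5, 11), (7, 11), (11, 11), (13, 7)])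
    hna hout hS (by intro r hr; fin_cases hr <;> norm_num) (by norm_num) (by decide +kernel) (by decide) hp h5

theorem on {S : Type u} [Group S] [Finite S] [IsSimpleGroup S] (hna : ∃ a b : S, a * b ≠ b * a)
    (hout : OutTwo S) (hS : Nat.card S = 460815505920) {p : ℕ} (hp : p.Prime) (h5 : 5 ≤ p) : CompS p S :=
  compS_of_order (n := 460815505920) (k := 9) (L := [2, 3, 5, 7, 11, 19, 31]) (Q := [(5, 11), (7, 11), (11, 11), (19, 11), (31, 11)])
    hna hout hS (by intro r hr; fin_cases hr <;> norm_num) (by norm_num) (by decide +kernel) (by decide) hp h5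

theorem co3 {S : Type u} [Group S] [Finite S] [IsSimpleGroup S] (hna : ∃ a b : S, a * b ≠ b * a)
    (hout : OutTwo S) (hS : Nat.card S = 495766656000) {p : ℕ} (hp : p.Prime) (h5 : 5 ≤ p) : CompS p S :=
  compS_of_order (n := 495766656000) (k := 10) (L := [2, 3, 5, 7, 11, 23]) (Q := [(5, 7), (7, 7), (11, 23), (23, 7)])
    hna hout hS (by intro r hr; fin_cases hr <;> norm_num) (by norm_num) (by decide +kernel) (by decide) hp h5

theorem co2 {S : Type u} [Group S] [Finite S] [IsSimpleGroup S] (hna : ∃ a b : S, a * b ≠ b * a)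
    (hout : OutTwo S) (hS : Nat.card S = 42305421312000) {p : ℕ} (hp : p.Prime) (h5 : 5 ≤ p) : CompS p S :=
  compS_of_order (n := 42305421312000) (k := 18) (L := [2, 3, 5, 7, 11, 23]) (Q := [(5, 7), (7, 7), (11, 23), (23, 7)])
    hna hout hS (by intro r hr; fin_cases hr <;> norm_num) (by norm_num) (by decide +kernel) (by decide) hp h5

theorem fi22 {S : Type u} [Group S] [Finite S] [IsSimpleGroup S] (hna : ∃ a b : S, a * b ≠ b * a)
    (hout : OutTwo S) (hS : Nat.card S = 64561751654400) {p : ℕ} (hp : p.Prime) (h5 : 5 ≤ p) : CompS p S :=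
  compS_of_order (n := 64561751654400) (k := 17) (L := [2, 3, 5, 7, 11, 13]) (Q := [(5, 11), (7, 11), (11, 11), (13, 7)])
    hna hout hS (by intro r hr; fin_cases hr <;> norm_num) (by norm_num) (by decide +kernel) (by decide) hp h5

theorem hn {S : Type u} [Group S] [Finite S] [IsSimpleGroup S] (hna : ∃ a b : S, a * b ≠ b * a)
    (hout : OutTwo S) (hS : Nat.card S = 273030912000000) {p : ℕ} (hp : p.Prime) (h5 : 5 ≤ p) : CompS p S :=
  compS_of_order (n := 273030912000000) (k := 14) (L := [2, 3, 5, 7, 11, 19]) (Q := [(5, 11), (7, 7), (11, 7), (19, 7)])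
    hna hout hS (by intro r hr; fin_cases hr <;> norm_num) (by norm_num) (by decide +kernel) (by decide) hp h5

theorem ly {S : Type u} [Group S] [Finite S] [IsSimpleGroup S] (hna : ∃ a b : S, a * b ≠ b * a)
    (hout : OutTwo S) (hS : Nat.card S = 51765179004000000) {p : ℕ} (hp : p.Prime) (h5 : 5 ≤ p) : CompS p S :=
  compS_of_order (n := 51765179004000000) (k := 8) (L := [2, 3, 5, 7, 11, 31, 37, 67]) (Q := [(5, 31), (7, 7), (11, 7), (31, 7), (37, 7), (67, 7)])
    hna hout hS (by intro r hr; fin_cases hr <;> norm_num) (by norm_num) (by decide +kernel) (by decide) hp h5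

theorem th {S : Type u} [Group S] [Finite S] [IsSimpleGroup S] (hna : ∃ a b : S, a * b ≠ b * a)
    (hout : OutTwo S) (hS : Nat.card S = 90745943887872000) {p : ℕ} (hp : p.Prime) (h5 : 5 ≤ p) : CompS p S :=
  compS_of_order (n := 90745943887872000) (k := 15) (L := [2, 3, 5, 7, 13, 19, 31]) (Q := [(5, 13), (7, 13), (13, 13), (19, 13), (31, 13)])
    hna hout hS (by intro r hr; fin_cases hr <;> norm_num) (by norm_num) (by decide +kernel) (by decide) hp h5

theorem fi23 {S : Type u} [Group S] [Finite S] [IsSimpleGroup S] (hna : ∃ a b : S, a * b ≠ b * a)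
    (hout : OutTwo S) (hS : Nat.card S = 4089470473293004800) {p : ℕ} (hp : p.Prime) (h5 : 5 ≤ p) : CompS p S :=
  compS_of_order (n := 4089470473293004800) (k := 18) (L := [2, 3, 5, 7, 11, 13, 17, 23]) (Q := [(5, 13), (7, 13), (11, 13), (13, 7), (17, 13), (23, 11)])
    hna hout hS (by intro r hr; fin_cases hr <;> norm_num) (by norm_num) (by decide +kernel) (by decide) hp h5

theorem co1 {S : Type u} [Group S] [Finite S] [IsSimpleGroup S] (hna : ∃ a b : S, a * b ≠ b * a)
    (hout : OutTwo S) (hS : Nat.card S = 4157776806543360000) {p : ℕ} (hp : p.Prime) (h5 : 5 ≤ p) : CompS p S :=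
  compS_of_order (n := 4157776806543360000) (k := 21) (L := [2, 3, 5, 7, 11, 13, 23]) (Q := [(5, 13), (7, 13), (11, 13), (13, 13), (23, 11)])
    hna hout hS (by intro r hr; fin_cases hr <;> norm_num) (by norm_num) (by decide +kernel) (by decide) hp h5

theorem j4 {S : Type u} [Group S] [Finite S] [IsSimpleGroup S] (hna : ∃ a b : S, a * b ≠ b * a)
    (hout : OutTwo S) (hS : Nat.card S = 86775571046077562880) {p : ℕ} (hp : p.Prime) (h5 : 5 ≤ p) : CompS p S :=
  compS_of_order (n := 86775571046077562880) (k := 21) (L := [2, 3, 5, 7, 11, 23, 29, 31, 37, 43]) (Q := [(5, 37), (7, 23), (11, 23), (23, 23), (29, 23), (31, 23), (37, 23), (43, 23)])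
    hna hout hS (by intro r hr; fin_cases hr <;> norm_num) (by norm_num) (by decide +kernel) (by decide) hp h5

theorem fi24 {S : Type u} [Group S] [Finite S] [IsSimpleGroup S] (hna : ∃ a b : S, a * b ≠ b * a)
    (hout : OutTwo S) (hS : Nat.card S = 1255205709190661721292800) {p : ℕ} (hp : p.Prime) (h5 : 5 ≤ p) : CompS p S :=
  compS_of_order (n := 1255205709190661721292800) (k := 21) (L := [2, 3, 5, 7, 11, 13, 17, 23, 29]) (Q := [(5, 13), (7, 23), (11, 13), (13, 13), (17, 13), (23, 11), (29, 13)])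
    hna hout hS (by intro r hr; fin_cases hr <;> norm_num) (by norm_num) (by decide +kernel) (by decide) hp h5

theorem b {S : Type u} [Group S] [Finite S] [IsSimpleGroup S] (hna : ∃ a b : S, a * b ≠ b * a)
    (hout : OutTwo S) (hS : Nat.card S = 4154781481226426191177580544000000) {p : ℕ} (hp : p.Prime) (h5 : 5 ≤ p) : CompS p S :=
  compS_of_order (n := 4154781481226426191177580544000000) (k := 41) (L := [2, 3, 5, 7, 11, 13, 17, 19, 23, 31, 47]) (Q := [(5, 13), (7, 13), (11, 13), (13, 13), (17, 13), (19, 13), (23, 11), (31, 13), (47, 13)])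
    hna hout hS (by intro r hr; fin_cases hr <;> norm_num) (by norm_num) (by decide +kernel) (by decide) hp h5

theorem m {S : Type u} [Group S] [Finite S] [IsSimpleGroup S] (hna : ∃ a b : S, a * b ≠ b * a)
    (hout : OutTwo S) (hS : Nat.card S = 808017424794512875886459904961710757005754368000000000) {p : ℕ} (hp : p.Prime) (h5 : 5 ≤ p) : CompS p S :=
  compS_of_order (n := 808017424794512875886459904961710757005754368000000000) (k := 46) (L := [2, 3, 5, 7, 11, 13, 17, 19, 23, 29, 31, 41, 47, 59, 71]) (Q := [(5, 17), (7, 31), (11, 17), (13, 17), (17, 17), (19, 17), (23, 17), (29, 31), (31, 17), (41, 17), (47, 17), (59, 17), (71, 17)])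
    hna hout hS (by intro r hr; fin_cases hr <;> norm_num) (by norm_num) (by decide +kernel) (by decide) hp h5

theorem tits {S : Type u} [Group S] [Finite S] [IsSimpleGroup S] (hna : ∃ a b : S, a * b ≠ b * a)
    (hout : OutTwo S) (hS : Nat.card S = 17971200) {p : ℕ} (hp : p.Prime) (h5 : 5 ≤ p) : CompS p S :=
  compS_of_order (n := 17971200) (k := 11) (L := [2, 3, 5, 13]) (Q := [(5, 13), (13, 13)])
    hna hout hS (by intro r hr; fin_cases hr <;> norm_num) (by norm_num) (by decide +kernel) (by decide) hp h5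

end Cfsg.Agent.H741.Pd
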