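import Cfsg.Agent.H741.Pd.OwnTwo
import Cfsg.Agent.H741.Pd.SporTab
import Cfsg.Agent.H279.GoodPSL
import Cfsg.Agent.H594.GoodPSU
import Cfsg.Agent.OddHalf.Known
import Cfsg.Agent.H877.PolSpRow
import Cfsg.Agent.H650.CuspPGL

/-!
# S4977: the table (helper741)
-/

set_option autoImplicit false

namespace Cfsg.Agent.H741.Pd

open Cfsg

universe u v

theorem noncomm_congr {S : Type u} {T : Type v} [Group S] [Group T] (e : S ≃* T) (h : ∃ a b : S, a * b ≠ b * a) :
    ∃ a b : T, a * b ≠ b * a := by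
  obtain ⟨a, b, hab⟩ := h
  refine ⟨e a, e b, fun h => hab (e.injective ?_)⟩
  rw [map_mul, map_mul, h]

theorem not_isMulComm {S : Type u} [Group S] (h : ∃ a b : S, a * b ≠ b * a) : ¬ IsMulCommutative S := by
  intro hc
  obtain ⟨a, b, hab⟩ := h
  exact hab (hc.is_comm.comm a b)

/-- `Good` for the projective symplectic groups. -/
def GoodPSp (p : ℕ) : Prop :=
  ∀ (F : Type) [Field F] [Fintype F] [CharP F p] (m : ℕ), 2 ≤ m → H687.Good p (PSp m F)

theorem goodPSp {p : ℕ} [Fact p.Prime] (h5 : 5 ≤ p) : GoodPSp p := by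
  intro F _ _ _ m hm
  refine H877.Pol.good_psp hm (by omega) ?_
  letI := Fintype.ofFinite F
  obtain ⟨π, h1, h2, h3, h4, h5⟩ := H650.CuspPGL.exists_cusp (p := p) (by omega) F
  exact ⟨π, h1, h2, h3, h4, h5⟩

/-- **Own characteristic.** -/
theorem compS_own {p : ℕ} [hp : Fact p.Prime] (h5 : 5 ≤ p) (hpsp : GoodPSp p) {S : Type u} [Group S] [Finite S]
    [IsSimpleGroup S] (hna : ∃ a b : S, a * b ≠ b * a) (h : IsLieTypeChar p S) : CompS p S := by
  rcases h with h | h | h | h | h | h | h | h | ⟨hp', -⟩ | ⟨hp', -⟩ | ⟨hp', -⟩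
  · obtain ⟨F, i1, i2, i3, n, h1, -, ⟨f⟩⟩ := h
    refine CompS.of_equiv f ?_
    have hs : IsSimpleGroup (Matrix.ProjectiveSpecialLinearGroup (Fin n) F) := f.symm.isSimpleGroup
    have hna' := noncomm_congr f hna
    by_cases h2 : n = 2
    · subst h2
      exact compS_psl_two h5
    · by_cases h4 : n = 4
      · subst h4
        exact OwnCls.psl_four h5 hna'
      · refine compS_of_good (H279.GoodPSL.good_psl (by omega) (by omega) h4) fun χ ψ k1 k2 k3 k4 => ?_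
        rw [OwnCls.psl_key h5 (by omega) χ k1 k3, OwnCls.psl_key h5 (by omega) ψ k2 k4]
  · obtain ⟨F, i1, i2, i3, m, h1, -, ⟨f⟩⟩ := h
    refine CompS.of_equiv f (compS_of_good (hpsp F m h1) fun χ ψ k1 k2 k3 k4 => ?_)
    rw [OwnCls.psp_key h5 h1 χ k1 k3, OwnCls.psp_key h5 h1 ψ k2 k4]
  · obtain ⟨F, i1, i2, i3, n, q, h1, h2, -, ⟨f⟩⟩ := h
    refine CompS.of_equiv f ?_
    have hs : IsSimpleGroup (PSU n F q) := f.symm.isSimpleGroup
    have hna' := noncomm_congr f hna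
    rcases Nat.even_or_odd n with he | ho
    · refine OwnCls.psu_even h5 ?_ he h1 hna'
      obtain ⟨k, rfl⟩ := he
      omega
    · refine compS_of_good (H594.GoodPSU.good_psu (by omega) h1 h2 ?_) fun χ ψ k1 k2 k3 k4 => ?_
      · rintro rfl
        exact absurd ho (by decide)
      · rw [OwnCls.psu_key h5 h2 ho h1 χ k1 k3, OwnCls.psu_key h5 h2 ho h1 ψ k2 k4]
  · obtain ⟨F, i1, i2, i3, m, h1, -, ⟨f⟩⟩ := h
    refine CompS.of_equiv f ?_
    have hs : IsSimpleGroup (POmega F (quadFormOdd m F)) := f.symm.isSimpleGroup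
    exact OwnCls.po_odd h5 h1 (noncomm_congr f hna)
  · obtain ⟨F, i1, i2, i3, m, h1, ⟨f⟩⟩ := h
    refine CompS.of_equiv f ?_
    have hs : IsSimpleGroup (POmega F (quadFormPlus m F)) := f.symm.isSimpleGroup
    exact OwnCls.po_plus h5 h1 (noncomm_congr f hna)
  · obtain ⟨F, i1, i2, i3, m, a, b, h1, h2, ⟨f⟩⟩ := h
    refine CompS.of_equiv f ?_
    have hs : IsSimpleGroup (POmega F (quadFormMinus (m - 1) F a b)) := f.symm.isSimpleGroup
    exact OwnCls.po_minus h5 h1 a b h2 (noncomm_congr f hna)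
  · obtain ⟨F, i1, i2, i3, h⟩ := h
    rcases h with ⟨-, ⟨f⟩⟩ | ⟨⟨f⟩⟩ | ⟨⟨f⟩⟩ | ⟨⟨f⟩⟩ | ⟨⟨f⟩⟩
    · have hs : IsSimpleGroup ↥(Lie.chevG2.group F) := f.symm.isSimpleGroup
      exact CompS.of_equiv f (OwnExc.g2 h5)
    · have hs : IsSimpleGroup ↥(Lie.chevF4.group F) := f.symm.isSimpleGroup
      exact CompS.of_equiv f (OwnExc.f4 h5 (noncomm_congr f hna))
    · have hs : IsSimpleGroup ↥(Lie.chevE6.group F) := f.symm.isSimpleGroup
      exact CompS.of_equiv f (OwnExc.e6 h5 (noncomm_congr f hna))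
    · have hs : IsSimpleGroup ↥(Lie.chevE7.group F) := f.symm.isSimpleGroup
      exact CompS.of_equiv f (OwnExc.e7 h5 (noncomm_congr f hna))
    · have hs : IsSimpleGroup ↥(Lie.chevE8.group F) := f.symm.isSimpleGroup
      exact CompS.of_equiv f (OwnExc.e8 h5 (noncomm_congr f hna))
  · obtain ⟨F, i1, i2, i3, q, hq, h⟩ := h
    rcases h with ⟨h1, ⟨f⟩⟩ | ⟨h1, ⟨f⟩⟩
    · have hs : IsSimpleGroup ↥(Lie.twistedE6 F q) := f.symm.isSimpleGroup
      exact CompS.of_equiv f (OwnExc.twE6 h5 hq h1 (noncomm_congr f hna))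
    · have hs : IsSimpleGroup ↥(Lie.twistedD4 F q) := f.symm.isSimpleGroup
      exact CompS.of_equiv f (OwnExc.twD4 h5 hq h1 (noncomm_congr f hna))
  · omega
  · omega
  · omega

/-- **The table.** -/
theorem compS_all {p : ℕ} [hp : Fact p.Prime] (h5 : 5 ≤ p) {S : Type u} [Group S] [Finite S]
    [IsSimpleGroup S] (hna : ∃ a b : S, a * b ≠ b * a) (h : IsKnownSimple' S) : CompS p S := by
  rcases OddHalf.Known.classify' (not_isMulComm hna) h with h | h | h | h
  · obtain ⟨n, hn, ⟨e⟩⟩ := h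
    exact CompS.of_equiv e (compS_alt hp.1 h5 hn)
  · obtain ⟨r, hr, h⟩ := h
    by_cases hpr : p = r
    · subst hpr
      exact compS_own h5 (goodPSp h5) hna h
    · rcases Sq.lie_sq hr h with h1 | ⟨F, i1, i2, i3, h1, h2, ⟨e⟩⟩
      · exact compS_cross hp.1 hr hpr (not_isMulComm hna) h h1
      · exact CompS.of_equiv e (compS_psl_prime hp.1 h5 hr h2 h1 hpr)
  · exact compS_tits hna h hp.1 h5
  · exact compS_sporadic hna h hp.1 h5

end Cfsg.Agent.H741.Pd
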